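import Mathlib

/-!
# Tests by tuples of tangent vectors at points with values in domains

For a scheme over a field `k`, a test with values in a `k`-domain `R` is an `R`-point with an
`m × i` family of tangent vectors at it. A form-like function assigns to every test an element of
`R`, naturally in `R`. These functions form a contravariant functor on schemes over `k`.
-/

set_option autoImplicit false
set_option linter.style.haveILetI false
set_option linter.unusedSectionVars false

universe u

open CategoryTheory AlgebraicGeometry Opposite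

noncomputable section

namespace Groth.Agent.FormEvalLib

/-- A ring map applied to both components of a dual number. -/
def εmap {A B : Type*} [CommRing A] [CommRing B] (φ : A →+* B) : DualNumber A →+* DualNumber B where
  toFun x := TrivSqZeroExt.inl (φ (TrivSqZeroExt.fst x)) + TrivSqZeroExt.inr (φ (TrivSqZeroExt.snd x))
  map_one' := by ext <;> simp
  map_mul' x y := by ext <;> simp [DualNumber.snd_mul]
  map_zero' := by ext <;> simp
  map_add' x y := by ext <;> simp

@[simp] theorem fst_εmap {A B : Type*} [CommRing A] [CommRing B] (φ : A →+* B) (x : DualNumber A) :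
    TrivSqZeroExt.fst (εmap φ x) = φ (TrivSqZeroExt.fst x) := by simp [εmap]

@[simp] theorem snd_εmap {A B : Type*} [CommRing A] [CommRing B] (φ : A →+* B) (x : DualNumber A) :
    TrivSqZeroExt.snd (εmap φ x) = φ (TrivSqZeroExt.snd x) := by simp [εmap]

/-- The constant part of a dual number. -/
abbrev fstH (A : Type*) [CommRing A] : DualNumber A →+* A := (TrivSqZeroExt.fstHom A A A).toRingHom

theorem fstH_comp_εmap {A B : Type*} [CommRing A] [CommRing B] (φ : A →+* B) :
    (fstH B).comp (εmap φ) = φ.comp (fstH A) := RingHom.ext fun x => fst_εmap φ x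

theorem fstH_comp_algebraMap (k A : Type*) [CommRing k] [CommRing A] [Algebra k A] :
    (fstH A).comp (algebraMap k (DualNumber A)) = algebraMap k A :=
  RingHom.ext fun c => by simp [fstH, TrivSqZeroExt.algebraMap_eq_inl']

theorem εmap_comp_algebraMap {k A B : Type*} [CommRing k] [CommRing A] [CommRing B] [Algebra k A] [Algebra k B]
    (φ : A →+* B) (hφ : φ.comp (algebraMap k A) = algebraMap k B) :
    (εmap φ).comp (algebraMap k (DualNumber A)) = algebraMap k (DualNumber B) :=
  RingHom.ext fun c => by
    ext <;> simp [TrivSqZeroExt.algebraMap_eq_inl', ← RingHom.congr_fun hφ c]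

/-- The inclusion of the points in their first-order thickening. -/
abbrev jε (A : Type u) [CommRing A] : Spec (CommRingCat.of A) ⟶ Spec (CommRingCat.of (DualNumber A)) :=
  Spec.map (CommRingCat.ofHom (fstH A))

/-- The spectrum map of a ring map. -/
abbrev sMap {A B : Type u} [CommRing A] [CommRing B] (φ : A →+* B) :
    Spec (CommRingCat.of B) ⟶ Spec (CommRingCat.of A) :=
  Spec.map (CommRingCat.ofHom φ)

theorem sMap_comp {A B C : Type u} [CommRing A] [CommRing B] [CommRing C] (φ : A →+* B) (ψ : B →+* C) :
    sMap ψ ≫ sMap φ = sMap (ψ.comp φ) := by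
  rw [sMap, sMap, sMap, CommRingCat.ofHom_comp, Spec.map_comp]

/-- The point underlying the thickening is every point. -/
theorem surjective_jε (A : Type u) [CommRing A] : Function.Surjective (jε A) := by
  intro q
  let ι : A →+* DualNumber A := algebraMap A (DualNumber A)
  refine ⟨PrimeSpectrum.comap ι q, PrimeSpectrum.ext (Ideal.ext fun x => ?_)⟩
  show ι (fstH A x) ∈ q.asIdeal ↔ x ∈ q.asIdeal
  have h : x - ι (fstH A x) ∈ q.asIdeal := by
    refine q.isPrime.mem_of_pow_mem 2 ?_
    rw [show (x - ι (fstH A x)) ^ 2 = 0 from ?_]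
    · exact zero_mem _
    rw [pow_two]
    ext <;> simp [ι, fstH, TrivSqZeroExt.algebraMap_eq_inl', DualNumber.snd_mul]
  constructor
  · exact fun hx => by simpa using add_mem h hx
  · exact fun hx => by simpa using sub_mem hx h

variable {k : Type u} [Field k]

/-- The structure morphism of the spectrum of an algebra. -/
abbrev str (k : Type u) [Field k] (A : Type u) [CommRing A] [Algebra k A] :
    Spec (CommRingCat.of A) ⟶ Spec (CommRingCat.of k) :=
  sMap (algebraMap k A)

theorem sMap_str {A B : Type u} [CommRing A] [CommRing B] [Algebra k A] [Algebra k B] (φ : A →ₐ[k] B) :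
    sMap φ.toRingHom ≫ str k A = str k B := by
  rw [str, str, sMap_comp]
  exact congrArg sMap φ.comp_algebraMap

/-- A test with values in a domain. -/
structure Tst (m i : ℕ) (Y : Over (Spec (CommRingCat.of k))) (R : Type u) [CommRing R] [Algebra k R] : Type u where
  /-- The point. -/
  a : Spec (CommRingCat.of R) ⟶ Y.left
  /-- The tangent vectors. -/
  v : Fin m → Fin i → (Spec (CommRingCat.of (DualNumber R)) ⟶ Y.left)
  a_over : a ≫ Y.hom = str k R
  v_over : ∀ j l, v j l ≫ Y.hom = str k (DualNumber R)
  v_fst : ∀ j l, jε R ≫ v j l = a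

variable {m i : ℕ} {Y Y' : Over (Spec (CommRingCat.of k))} {R R' : Type u} [CommRing R] [CommRing R']
  [Algebra k R] [Algebra k R']

theorem Tst.ext' {w w' : Tst m i Y R} (ha : w.a = w'.a) (hv : ∀ j l, w.v j l = w'.v j l) : w = w' := by
  obtain ⟨a, v, _, _, _⟩ := w
  obtain ⟨a', v', _, _, _⟩ := w'
  obtain rfl : a = a' := ha
  obtain rfl : v = v' := funext fun j => funext fun l => hv j l
  rfl

/-- A test seen in another scheme. -/
def Tst.push (h : Y ⟶ Y') (w : Tst m i Y R) : Tst m i Y' R where
  a := w.a ≫ h.left
  v j l := w.v j l ≫ h.left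
  a_over := by rw [Category.assoc, Over.w h]; exact w.a_over
  v_over j l := by rw [Category.assoc, Over.w h]; exact w.v_over j l
  v_fst j l := by rw [← Category.assoc, w.v_fst]

/-- A test with values extended along a map of algebras. -/
def Tst.map (φ : R →ₐ[k] R') (w : Tst m i Y R) : Tst m i Y R' where
  a := sMap φ.toRingHom ≫ w.a
  v j l := sMap (εmap φ.toRingHom) ≫ w.v j l
  a_over := by rw [Category.assoc, w.a_over, sMap_str]
  v_over j l := by
    rw [Category.assoc, w.v_over, str, str, sMap_comp]
    exact congrArg sMap (εmap_comp_algebraMap _ φ.comp_algebraMap)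
  v_fst j l := by
    rw [jε, ← Category.assoc, show Spec.map (CommRingCat.ofHom (fstH R')) = sMap (fstH R') from rfl, sMap_comp,
      ← fstH_comp_εmap φ.toRingHom |>.symm, ← w.v_fst j l, ← Category.assoc, jε, sMap_comp]

theorem Tst.push_map (h : Y ⟶ Y') (φ : R →ₐ[k] R') (w : Tst m i Y R) :
    (w.map φ).push h = (w.push h).map φ :=
  Tst.ext' (Category.assoc _ _ _) fun _ _ => Category.assoc _ _ _

theorem Tst.map_map {R'' : Type u} [CommRing R''] [Algebra k R''] (φ : R →ₐ[k] R') (ψ : R' →ₐ[k] R'')
    (w : Tst m i Y R) : (w.map φ).map ψ = w.map (ψ.comp φ) := by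
  refine Tst.ext' ?_ fun j l => ?_
  · show sMap _ ≫ sMap _ ≫ w.a = sMap _ ≫ w.a
    rw [← Category.assoc, sMap_comp]
    rfl
  · show sMap _ ≫ sMap _ ≫ w.v j l = sMap _ ≫ w.v j l
    rw [← Category.assoc, sMap_comp]
    congr 2
    exact RingHom.ext fun x => by ext <;> simp

variable (m i Y) in
/-- Natural functions on tests. -/
@[ext] structure Fam : Type (u + 1) where
  /-- The values. -/
  val : ∀ (R : Type u) [CommRing R] [IsDomain R] [Algebra k R], Tst m i Y R → R
  nat : ∀ (R R' : Type u) [CommRing R] [IsDomain R] [Algebra k R] [CommRing R'] [IsDomain R'] [Algebra k R']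
    (φ : R →ₐ[k] R') (w : Tst m i Y R), val R' (w.map φ) = φ (val R w)

/-- Natural functions seen along a morphism. -/
def Fam.pull (h : Y ⟶ Y') (η : Fam m i Y') : Fam m i Y where
  val R _ _ _ w := η.val R (w.push h)
  nat R R' _ _ _ _ _ _ φ w := by rw [Tst.push_map, η.nat]

/-- The functor of natural functions on tests. -/
def famFunctor (k : Type u) [Field k] (m i : ℕ) : (Over (Spec (CommRingCat.of k)))ᵒᵖ ⥤ Type (u + 1) where
  obj Y := Fam m i Y.unop
  map h := ↾ (fun η => η.pull h.unop)
  map_id Y := by
    refine ConcreteCategory.hom_ext _ _ fun η => Fam.ext ?_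
    funext R _ _ _ w
    show η.val R _ = η.val R w
    exact congrArg _ (Tst.ext' rfl fun j l => rfl)
  map_comp {Y Y' Y''} h h' := by
    refine ConcreteCategory.hom_ext _ _ fun η => Fam.ext ?_
    funext R _ _ _ w
    show η.val R _ = η.val R _
    exact congrArg _ (Tst.ext' (Category.assoc _ _ _).symm fun _ _ => (Category.assoc _ _ _).symm)

end Groth.Agent.FormEvalLib
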