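import Groth.Agent.RelPurLib.P1Charts
import Groth.Agent.FormEvalLib.Tst

/-!
# The two affine coordinates of the projective line
-/

set_option autoImplicit false
set_option linter.style.haveILetI false
set_option linter.unusedSectionVars false
set_option backward.isDefEq.respectTransparency false
set_option maxHeartbeats 1000000

universe u

open CategoryTheory AlgebraicGeometry HomogeneousLocalization
open Groth.Agent.RelPurLib

noncomputable section

namespace Groth.Agent.FormEvalLib

/-- The ring map from the integers. -/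
abbrev zA (A : Type u) [CommRing A] : ULift.{u} ℤ →+* A := (Int.castRingHom A).comp ULift.ringEquiv.toRingHom

theorem zA_unique {A : Type u} [CommRing A] (φ : ULift.{u} ℤ →+* A) : φ = zA A := by
  refine RingHom.ext fun z => ?_
  rcases z with ⟨n⟩
  exact RingHom.congr_fun (RingHom.ext_int (φ.comp (ULift.ringEquiv.{0, u} (R := ℤ)).symm.toRingHom) (Int.castRingHom A)) n

/-- The point with a given coordinate in a chart. -/
def pt {A : Type u} [CommRing A] (c : Fin (1 + 1)) (e : A) :
    Spec (CommRingCat.of A) ⟶ CohB1.ProjSpace 1 (ULift.{u} ℤ) :=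
  sMap (Polynomial.eval₂RingHom (zA A) e) ≫ chart (ULift.{u} ℤ) c

theorem sMap_pt {A B : Type u} [CommRing A] [CommRing B] (φ : A →+* B) (c : Fin (1 + 1)) (e : A) :
    sMap φ ≫ pt c e = pt c (φ e) := by
  rw [pt, ← Category.assoc, sMap_comp, pt]
  congr 2
  exact Polynomial.ringHom_ext' (by rw [zA_unique (RingHom.comp _ Polynomial.C), zA_unique (RingHom.comp _ Polynomial.C)]) (by simp)

/-- Maps of homogeneous polynomials proportional on variables. -/
theorem homogeneous_scale {σ R A : Type*} [CommRing R] [CommRing A] {a : MvPolynomial σ R} {n : ℕ}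
    (ha : a.IsHomogeneous n) (ψ ψ' : MvPolynomial σ R →+* A) (c : A) (hC : ∀ r, ψ (MvPolynomial.C r) = ψ' (MvPolynomial.C r))
    (hX : ∀ v, ψ (MvPolynomial.X v) = c * ψ' (MvPolynomial.X v)) : ψ a = c ^ n * ψ' a := by
  rw [a.as_sum, map_sum, map_sum, Finset.mul_sum]
  refine Finset.sum_congr rfl fun d hd => ?_
  have hdeg : Finsupp.degree d = n := by
    have := ha (MvPolynomial.mem_support_iff.1 hd)
    simpa [Finsupp.weight_apply, Finsupp.sum, Finsupp.degree] using this
  rw [MvPolynomial.monomial_eq, map_mul, map_mul, Finsupp.prod, map_prod, map_prod, hC]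
  simp only [map_pow, hX, mul_pow, Finset.prod_mul_distrib, Finset.prod_pow_eq_pow_sum]
  rw [show ∑ v ∈ d.support, d v = n from hdeg]
  ring

theorem chart_eq {A : Type u} [CommRing A] (c : Fin (1 + 1)) (e : A) :
    pt c e = sMap ((Polynomial.eval₂RingHom (zA A) e).comp (chartRingHom (ULift.{u} ℤ) c)) ≫
      Proj.awayι (CohB1.polyGrading 1 (ULift.{u} ℤ)) (cf (ULift.{u} ℤ) c).1 (cf (ULift.{u} ℤ) c).2 one_pos := by
  rw [pt, chart, ← Category.assoc]
  congr 1
  rw [← Spec.map_comp]
  rfl

/-- An invertible coordinate in one chart is the inverse coordinate in the other one. -/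
theorem pt_unit {A : Type u} [CommRing A] (c : Fin (1 + 1)) (e : Aˣ) : pt c (e : A) = pt (oth c) (↑e⁻¹ : A) := by
  classical
  let 𝒜 := CohB1.polyGrading 1 (ULift.{u} ℤ)
  let Xc := (cf (ULift.{u} ℤ) c)
  let Xd := (cf (ULift.{u} ℤ) (oth c))
  let g := Xc.1 * Xd.1
  let evA : MvPolynomial (Fin (1 + 1)) (ULift.{u} ℤ) →+* A :=
    (Polynomial.eval₂RingHom (zA A) (e : A)).comp (evOne (ULift.{u} ℤ) c)
  let evB : MvPolynomial (Fin (1 + 1)) (ULift.{u} ℤ) →+* A :=
    (Polynomial.eval₂RingHom (zA A) (↑e⁻¹ : A)).comp (evOne (ULift.{u} ℤ) (oth c))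
  have hAc : evA Xc.1 = 1 := by simp [evA, Xc, cf_val, evOne_X]
  have hAd : evA Xd.1 = (e : A) := by simp [evA, Xd, cf_val, evOne_X, oth_ne]
  have hg : evA g = (e : A) := by rw [map_mul, hAc, hAd, one_mul]
  have hu : IsUnit (evA g) := hg ▸ e.isUnit
  let G : Away 𝒜 g →+* A := (IsLocalization.Away.lift (S := Localization.Away g) g (g := evA) hu).comp
    (algebraMap (Away 𝒜 g) (Localization.Away g))
  have hG : ∀ (d : ℕ) (hd : g ∈ 𝒜 d) (n : ℕ) (b : MvPolynomial (Fin (1 + 1)) (ULift.{u} ℤ)) (hb : b ∈ 𝒜 (n • d)),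
      G (Away.mk 𝒜 hd n b hb) * (e : A) ^ n = evA b := fun d hd n b hb => by
    have h : val (Away.mk 𝒜 hd n b hb) * algebraMap _ (Localization.Away g) (g ^ n) =
        algebraMap _ (Localization.Away g) b := by
      rw [Away.val_mk, ← Localization.mk_one_eq_algebraMap, ← Localization.mk_one_eq_algebraMap,
        Localization.mk_mul, Localization.mk_eq_mk_iff, Localization.r_iff_exists]
      exact ⟨1, by simp [mul_comm]⟩
    have h2 := congrArg (IsLocalization.Away.lift (S := Localization.Away g) g (g := evA) hu) h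
    simp only [map_mul (IsLocalization.Away.lift (S := Localization.Away g) g (g := evA) hu),
      IsLocalization.Away.lift_eq, map_pow, hg] at h2
    exact h2
  have hc : (Polynomial.eval₂RingHom (zA A) (e : A)).comp (chartRingHom (ULift.{u} ℤ) c) =
      G.comp (awayMap 𝒜 (f := Xc.1) Xd.2 (rfl : g = Xc.1 * Xd.1)) := RingHom.ext fun z => by
    obtain ⟨n, a, ha, rfl⟩ := Away.mk_surjective 𝒜 Xc.2 z
    refine (e.isUnit.pow n).mul_right_cancel ?_
    rw [RingHom.comp_apply, RingHom.comp_apply, awayMap_mk, hG, map_mul, map_pow, hAd, chartRingHom,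
      ProjUPLib.evalChart_mk]
    rfl
  have hd : (Polynomial.eval₂RingHom (zA A) (↑e⁻¹ : A)).comp (chartRingHom (ULift.{u} ℤ) (oth c)) =
      G.comp (awayMap 𝒜 (f := Xd.1) Xc.2 (mul_comm Xc.1 Xd.1 : g = Xd.1 * Xc.1)) := RingHom.ext fun z => by
    obtain ⟨n, a, ha, rfl⟩ := Away.mk_surjective 𝒜 Xd.2 z
    refine (e.isUnit.pow n).mul_right_cancel ?_
    rw [RingHom.comp_apply, RingHom.comp_apply, awayMap_mk, hG, map_mul, map_pow, hAc, one_pow, mul_one,
      chartRingHom, ProjUPLib.evalChart_mk]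
    have hhom : a.IsHomogeneous n := (MvPolynomial.mem_homogeneousSubmodule n a).1 (show a ∈ 𝒜 n from mul_one n ▸ ha)
    rw [homogeneous_scale hhom evA evB (e : A)
      (fun r => by simp [evA, evB, evOne_C])
      (fun v => by
        rcases eq_or_eq_oth c v with rfl | rfl
        · simp [evA, evB, evOne_X, (oth_ne v).symm]
        · simp [evA, evB, evOne_X, oth_ne]), mul_comm]
    rfl
  rw [chart_eq, chart_eq, hc, hd, ← sMap_comp _ G, ← sMap_comp _ G, Category.assoc, Category.assoc]
  exact congrArg (sMap G ≫ ·) ((Proj.SpecMap_awayMap_awayι 𝒜 Xc.2 one_pos Xd.2 rfl).trans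
    (Proj.SpecMap_awayMap_awayι 𝒜 Xd.2 one_pos Xc.2 (mul_comm Xc.1 Xd.1)).symm)

/-- A point in a chart has a coordinate. -/
theorem exists_pt {A : Type u} [CommRing A] (p : Spec (CommRingCat.of A) ⟶ CohB1.ProjSpace 1 (ULift.{u} ℤ))
    (c : Fin (1 + 1)) (h : Set.range p ⊆ Set.range (chart (ULift.{u} ℤ) c)) : ∃ e : A, p = pt c e := by
  obtain ⟨θ, hθ⟩ := Spec.map_surjective (IsOpenImmersion.lift (chart (ULift.{u} ℤ) c) p h)
  refine ⟨θ.hom Polynomial.X, ?_⟩
  rw [← IsOpenImmersion.lift_fac (chart (ULift.{u} ℤ) c) p h, ← hθ, pt]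
  congr 1
  refine congrArg Spec.map (CommRingCat.hom_ext ?_)
  exact Polynomial.ringHom_ext' (by rw [zA_unique (θ.hom.comp Polynomial.C)]; exact (zA_unique _).symm) (by simp)

theorem pt_injective {A : Type u} [CommRing A] (c : Fin (1 + 1)) {e e' : A} (h : pt c e = pt c e') : e = e' := by
  rw [pt, pt, cancel_mono] at h
  simpa using RingHom.congr_fun (congrArg CommRingCat.Hom.hom (Spec.map_injective h)) Polynomial.X

end Groth.Agent.FormEvalLib
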