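import Groth.Agent.FormEvalLib.Chart
import Groth.Prelude.Def_CohB1

/-!
# Natural functions on tests are invariant under projective lines
-/

set_option autoImplicit false
set_option linter.style.haveILetI false
set_option linter.unusedSectionVars false
set_option backward.isDefEq.respectTransparency false
set_option maxHeartbeats 1000000

universe u

open CategoryTheory CategoryTheory.Limits AlgebraicGeometry
open Groth.Agent.RelPurLib (oth chart eq_or_eq_oth range_chart_cover)

noncomputable section

namespace Groth.Agent.FormEvalLib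

section Poly

open MvPolynomial

variable {L : Type u} [Field L] {P : Type} [Fintype P] [DecidableEq P] {F : Type u} [Field F]
  [Algebra (MvPolynomial (Option P) L) F] [IsFractionRing (MvPolynomial (Option P) L) F]

/-- The weight of a monomial under inverting the coordinate. -/
def wt (d : Option P →₀ ℕ) : ℕ := d none + 2 * ∑ p, d (some p)

/-- A polynomial in a coordinate and tangent coordinates that is also one in the inverse coordinate
is a constant. -/
theorem eq_C_of_inverse (G H : MvPolynomial (Option P) L) (ψ : MvPolynomial (Option P) L →+* F)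
    (hC : ∀ r : L, ψ (C r) = algebraMap _ F (C r : MvPolynomial (Option P) L))
    (ht : ψ (X none) = (algebraMap _ F (X none : MvPolynomial (Option P) L))⁻¹)
    (hτ : ∀ p, ψ (X (some p)) = -(algebraMap _ F (X (some p) : MvPolynomial (Option P) L) *
      ((algebraMap _ F (X none : MvPolynomial (Option P) L))⁻¹) ^ 2))
    (h : algebraMap _ F G = ψ H) : ∃ g : L, G = C g := by
  classical
  let N := H.support.sup wt
  let T : F := algebraMap _ F (X none : MvPolynomial (Option P) L)
  have hT : T ≠ 0 := fun h0 => X_ne_zero (none : Option P)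
    (IsFractionRing.injective (MvPolynomial (Option P) L) F (h0.trans (map_zero _).symm))
  let d' : (Option P →₀ ℕ) → (Option P →₀ ℕ) := fun d =>
    Finsupp.equivFunOnFinite.symm fun o => o.elim (N - wt d) fun p => d (some p)
  let H' : MvPolynomial (Option P) L :=
    ∑ d ∈ H.support, monomial (d' d) ((-1) ^ (∑ p, d (some p)) * coeff d H)
  have hmon : ∀ d ∈ H.support, T ^ N * ψ (monomial d (coeff d H)) =
      algebraMap _ F (monomial (d' d) ((-1) ^ (∑ p, d (some p)) * coeff d H)) := fun d hd => by
    have hle : wt d ≤ N := Finset.le_sup hd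
    let A := algebraMap (MvPolynomial (Option P) L) F
    have e1 : ψ (monomial d (coeff d H)) = A (C (coeff d H)) *
        (T⁻¹ ^ d none * ∏ p, (-(A (X (some p)) * T⁻¹ ^ 2)) ^ d (some p)) := by
      rw [monomial_eq, Finsupp.prod_fintype _ _ (fun _ => pow_zero _), Fintype.prod_option, map_mul, map_mul,
        map_prod, map_pow, hC, ht]
      refine congrArg (A (C (coeff d H)) * ·) (congrArg (T⁻¹ ^ d none * ·) (Finset.prod_congr rfl fun p _ => ?_))
      rw [map_pow, hτ]
    have e2 : A (monomial (d' d) ((-1) ^ (∑ p, d (some p)) * coeff d H)) =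
        ((-1) ^ (∑ p, d (some p)) * A (C (coeff d H))) * (T ^ (N - wt d) * ∏ p, A (X (some p)) ^ d (some p)) := by
      rw [monomial_eq, Finsupp.prod_fintype _ _ (fun _ => pow_zero _), Fintype.prod_option, C_mul, C_pow, C_neg, C_1]
      simp only [map_mul, map_pow, map_neg, map_one, map_prod]
      rfl
    have e3 : (∏ p : P, (-(A (X (some p)) * T⁻¹ ^ 2)) ^ d (some p)) =
        (-1) ^ (∑ p, d (some p)) * (∏ p : P, A (X (some p)) ^ d (some p)) * (T⁻¹ ^ 2) ^ (∑ p, d (some p)) := by
      rw [← Finset.prod_pow_eq_pow_sum, ← Finset.prod_pow_eq_pow_sum, ← Finset.prod_mul_distrib,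
        ← Finset.prod_mul_distrib]
      refine Finset.prod_congr rfl fun p _ => ?_
      rw [← mul_pow, ← mul_pow]
      exact congrArg (· ^ d (some p)) (by ring)
    have hN : T ^ N = T ^ (N - wt d) * (T ^ d none * (T ^ 2) ^ (∑ p, d (some p))) := by
      rw [← pow_mul, ← pow_add, ← pow_add, ← wt, Nat.sub_add_cancel hle]
    rw [e1, e3, show algebraMap _ F _ = _ from e2, hN]
    have i1 : T ^ d none * T⁻¹ ^ d none = 1 := by rw [← mul_pow, mul_inv_cancel₀ hT, one_pow]
    have i2 : (T ^ 2) ^ (∑ p, d (some p)) * (T⁻¹ ^ 2) ^ (∑ p, d (some p)) = 1 := by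
      rw [← mul_pow, ← mul_pow, mul_inv_cancel₀ hT, one_pow, one_pow]
    generalize T ^ (N - wt d) = a, T ^ d none = b, (T ^ 2) ^ (∑ p, d (some p)) = c, T⁻¹ ^ d none = b',
      (T⁻¹ ^ 2) ^ (∑ p, d (some p)) = c', A (C (coeff d H)) = z,
      (∏ p : P, A (X (some p)) ^ d (some p)) = q, ((-1 : F)) ^ (∑ p, d (some p)) = e at i1 i2 ⊢
    linear_combination (a * z * e * q * c * c') * i1 + (a * z * e * q) * i2
  have key : G * monomial (Finsupp.single none N) 1 = H' := by
    refine IsFractionRing.injective (MvPolynomial (Option P) L) F ?_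
    rw [map_mul, h, show monomial (Finsupp.single none N) (1 : L) = X none ^ N from X_pow_eq_monomial.symm,
      map_pow, mul_comm]
    conv_lhs => rw [H.as_sum, map_sum, Finset.mul_sum]
    rw [map_sum]
    exact Finset.sum_congr rfl hmon
  refine ⟨coeff 0 G, ext _ _ fun d₀ => ?_⟩
  rw [coeff_C]
  split_ifs with h0
  · rw [h0]
  · have hc := congrArg (coeff (d₀ + Finsupp.single none N)) key
    rw [coeff_mul_monomial, mul_one, coeff_sum] at hc
    rw [hc]
    refine Finset.sum_eq_zero fun d hd => ?_
    rw [coeff_monomial, if_neg]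
    intro e
    refine h0 (Finsupp.ext fun o => ?_).symm
    have hle : wt d ≤ N := Finset.le_sup hd
    have en : N - wt d = d₀ none + N := by simpa [d'] using DFunLike.congr_fun e none
    have hw : wt d = 0 ∧ d₀ none = 0 := by omega
    match o with
    | none => simpa using hw.2
    | some p =>
      have ep : d (some p) = d₀ (some p) := by simpa [d'] using DFunLike.congr_fun e (some p)
      have : d (some p) ≤ ∑ q, d (some q) := Finset.single_le_sum (fun q _ => Nat.zero_le (d (some q))) (Finset.mem_univ p)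
      have h' := hw.1
      rw [wt] at h'
      simp only [Finsupp.coe_zero, Pi.zero_apply]
      omega

end Poly

variable {k : Type u} [Field k] {m i : ℕ} (Y : Over (Spec (CommRingCat.of k)))

/-- The projective line over a scheme over `k`. -/
abbrev pline : Over (Spec (CommRingCat.of k)) :=
  Over.mk (CohB1.ProjSpaceOver.toBase 1 Y.left ≫ Y.hom)

/-- The projection of the projective line. -/
abbrev plineπ : pline Y ⟶ Y := Over.homMk (CohB1.ProjSpaceOver.toBase 1 Y.left) rfl

/-- The section at the origin of a chart. -/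
def plineSec : Y ⟶ pline Y :=
  Over.homMk (pullback.lift (specULiftZIsTerminal.from Y.left ≫ pt (A := ULift.{u} ℤ) 0 0) (𝟙 _)
    (specULiftZIsTerminal.hom_ext _ _))
    (show pullback.lift _ _ _ ≫ pullback.snd _ _ ≫ Y.hom = Y.hom by rw [pullback.lift_snd_assoc, Category.id_comp])

theorem plineSec_π : plineSec Y ≫ plineπ Y = 𝟙 Y :=
  Over.OverMorphism.ext (pullback.lift_snd _ _ _)

variable {Y} {R R' : Type u} [CommRing R] [CommRing R'] [Algebra k R] [Algebra k R']

/-- A test on the projective line from coordinates in a chart. -/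
def liftTst (w : Tst m i Y R) (c : Fin (1 + 1)) (t : R) (τ : Fin m → Fin i → R) : Tst m i (pline Y) R where
  a := pullback.lift (pt c t) w.a (specULiftZIsTerminal.hom_ext _ _)
  v j l := pullback.lift (pt c (TrivSqZeroExt.inl t + TrivSqZeroExt.inr (τ j l) : DualNumber R)) (w.v j l)
    (specULiftZIsTerminal.hom_ext _ _)
  a_over := by
    show pullback.lift _ _ _ ≫ pullback.snd _ _ ≫ Y.hom = _
    rw [pullback.lift_snd_assoc, w.a_over]
  v_over j l := by
    show pullback.lift _ _ _ ≫ pullback.snd _ _ ≫ Y.hom = _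
    rw [pullback.lift_snd_assoc, w.v_over]
  v_fst j l := by
    refine pullback.hom_ext ?_ ?_
    · rw [Category.assoc, pullback.lift_fst, pullback.lift_fst, sMap_pt (fstH R)]
      congr 1
      simp [fstH]
    · rw [Category.assoc, pullback.lift_snd, pullback.lift_snd, w.v_fst]

theorem tst_pline_ext {u' v' : Tst m i (pline Y) R} (h1 : u'.a ≫ pullback.fst _ _ = v'.a ≫ pullback.fst _ _)
    (h2 : u'.a ≫ pullback.snd _ _ = v'.a ≫ pullback.snd _ _)
    (h3 : ∀ j l, u'.v j l ≫ pullback.fst _ _ = v'.v j l ≫ pullback.fst _ _)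
    (h4 : ∀ j l, u'.v j l ≫ pullback.snd _ _ = v'.v j l ≫ pullback.snd _ _) : u' = v' :=
  Tst.ext' (pullback.hom_ext h1 h2) fun j l => pullback.hom_ext (h3 j l) (h4 j l)

theorem push_liftTst (w : Tst m i Y R) (c : Fin (1 + 1)) (t : R) (τ : Fin m → Fin i → R) :
    (liftTst w c t τ).push (plineπ Y) = w :=
  Tst.ext' (pullback.lift_snd _ _ _) fun _ _ => pullback.lift_snd _ _ _

theorem push_plineSec (w : Tst m i Y R) : w.push (plineSec Y) = liftTst w 0 0 0 := by
  have key : ∀ (A : Type u) [CommRing A] (a : Spec (CommRingCat.of A) ⟶ Y.left),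
      a ≫ specULiftZIsTerminal.from Y.left ≫ pt (A := ULift.{u} ℤ) 0 0 = pt 0 (0 : A) := fun A _ a => by
    rw [← Category.assoc, show a ≫ specULiftZIsTerminal.from Y.left = sMap (zA A) from specULiftZIsTerminal.hom_ext _ _,
      sMap_pt, map_zero]
  refine tst_pline_ext ?_ ?_ (fun j l => ?_) fun j l => ?_
  · show (w.a ≫ pullback.lift _ _ _) ≫ pullback.fst _ _ = pullback.lift _ _ _ ≫ pullback.fst _ _
    rw [Category.assoc, pullback.lift_fst, pullback.lift_fst, key]
  · show (w.a ≫ pullback.lift _ _ _) ≫ pullback.snd _ _ = pullback.lift _ _ _ ≫ pullback.snd _ _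
    rw [Category.assoc, pullback.lift_snd, pullback.lift_snd, Category.comp_id]
  · show (w.v j l ≫ pullback.lift _ _ _) ≫ pullback.fst _ _ = pullback.lift _ _ _ ≫ pullback.fst _ _
    rw [Category.assoc, pullback.lift_fst, pullback.lift_fst, key]
    congr 1
    simp
  · show (w.v j l ≫ pullback.lift _ _ _) ≫ pullback.snd _ _ = pullback.lift _ _ _ ≫ pullback.snd _ _
    rw [Category.assoc, pullback.lift_snd, pullback.lift_snd, Category.comp_id]

theorem liftTst_map (φ : R →ₐ[k] R') (w : Tst m i Y R) (c : Fin (1 + 1)) (t : R) (τ : Fin m → Fin i → R) :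
    (liftTst w c t τ).map φ = liftTst (w.map φ) c (φ t) (fun j l => φ (τ j l)) := by
  refine tst_pline_ext ?_ ?_ (fun j l => ?_) fun j l => ?_
  · show (sMap _ ≫ pullback.lift _ _ _) ≫ pullback.fst _ _ = pullback.lift _ _ _ ≫ pullback.fst _ _
    rw [Category.assoc, pullback.lift_fst, pullback.lift_fst, sMap_pt]
    rfl
  · show (sMap _ ≫ pullback.lift _ _ _) ≫ pullback.snd _ _ = pullback.lift _ _ _ ≫ pullback.snd _ _
    rw [Category.assoc, pullback.lift_snd, pullback.lift_snd]
    rfl
  · show (sMap _ ≫ pullback.lift _ _ _) ≫ pullback.fst _ _ = pullback.lift _ _ _ ≫ pullback.fst _ _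
    rw [Category.assoc, pullback.lift_fst, pullback.lift_fst, sMap_pt]
    congr 1
    ext <;> simp
  · show (sMap _ ≫ pullback.lift _ _ _) ≫ pullback.snd _ _ = pullback.lift _ _ _ ≫ pullback.snd _ _
    rw [Category.assoc, pullback.lift_snd, pullback.lift_snd]
    rfl

theorem liftTst_unit {F : Type u} [Field F] [Algebra k F] (w : Tst m i Y F) (c : Fin (1 + 1)) {t : F} (ht : t ≠ 0)
    (τ : Fin m → Fin i → F) : liftTst w c t τ = liftTst w (oth c) t⁻¹ (fun j l => -(τ j l * t⁻¹ ^ 2)) := by
  refine tst_pline_ext ?_ ?_ (fun j l => ?_) fun j l => ?_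
  · show pullback.lift _ _ _ ≫ pullback.fst _ _ = pullback.lift _ _ _ ≫ pullback.fst _ _
    rw [pullback.lift_fst, pullback.lift_fst]
    exact pt_unit c (Units.mk0 t ht)
  · show pullback.lift _ _ _ ≫ pullback.snd _ _ = pullback.lift _ _ _ ≫ pullback.snd _ _
    rw [pullback.lift_snd, pullback.lift_snd]
  · show pullback.lift _ _ _ ≫ pullback.fst _ _ = pullback.lift _ _ _ ≫ pullback.fst _ _
    rw [pullback.lift_fst, pullback.lift_fst]
    have h1 : (TrivSqZeroExt.inl t + TrivSqZeroExt.inr (τ j l) : DualNumber F) *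
        (TrivSqZeroExt.inl t⁻¹ + TrivSqZeroExt.inr (-(τ j l * t⁻¹ ^ 2))) = 1 := by
      ext <;> simp [DualNumber.snd_mul] <;> field_simp <;> ring
    exact pt_unit c (Units.mkOfMulEqOne _ _ h1)
  · show pullback.lift _ _ _ ≫ pullback.snd _ _ = pullback.lift _ _ _ ≫ pullback.snd _ _
    rw [pullback.lift_snd, pullback.lift_snd]

/-- A test with values in a field comes from coordinates in a chart. -/
theorem exists_liftTst {L : Type u} [Field L] [Algebra k L] (w : Tst m i (pline Y) L) :
    ∃ c t τ, w = liftTst (w.push (plineπ Y)) c t τ := by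
  let p : Spec (CommRingCat.of L) ⟶ CohB1.ProjSpace 1 (ULift.{u} ℤ) := w.a ≫ pullback.fst _ _
  let x₀ : Spec (CommRingCat.of L) := (inferInstance : Nonempty (PrimeSpectrum L)).some
  obtain ⟨c, hc⟩ : ∃ c, p x₀ ∈ Set.range (chart (ULift.{u} ℤ) c) :=
    (range_chart_cover (ULift.{u} ℤ) 0 (p x₀)).elim (fun h => ⟨_, h⟩) fun h => ⟨_, h⟩
  have hp : Set.range p ⊆ Set.range (chart (ULift.{u} ℤ) c) := by
    rintro _ ⟨x, rfl⟩
    rwa [show x = x₀ from Subsingleton.elim (α := PrimeSpectrum L) _ _]
  obtain ⟨t, ht⟩ := exists_pt p c hp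
  have hv : ∀ j l, ∃ τ : L, w.v j l ≫ pullback.fst _ _ =
      pt c (TrivSqZeroExt.inl t + TrivSqZeroExt.inr τ : DualNumber L) := fun j l => by
    have hj : jε L ≫ (w.v j l ≫ pullback.fst _ _) = p := by rw [← Category.assoc, w.v_fst]
    obtain ⟨e, he⟩ := exists_pt (A := DualNumber L) (w.v j l ≫ pullback.fst _ _) c (by
      rintro _ ⟨q, rfl⟩
      obtain ⟨q', rfl⟩ := surjective_jε L q
      rw [← Scheme.Hom.comp_apply, hj]
      exact hp ⟨q', rfl⟩)
    rw [he, sMap_pt (fstH L), ht] at hj
    have h0 : TrivSqZeroExt.fst e = t := pt_injective c hj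
    exact ⟨TrivSqZeroExt.snd e, he.trans (congrArg (pt c) (by rw [← h0]; exact (TrivSqZeroExt.inl_fst_add_inr_snd_eq e).symm))⟩
  choose τ hτ using hv
  refine ⟨c, t, τ, tst_pline_ext ?_ ?_ (fun j l => ?_) fun j l => ?_⟩
  · exact ht.trans (pullback.lift_fst _ _ _).symm
  · exact (pullback.lift_snd _ _ _).symm
  · exact (hτ j l).trans (pullback.lift_fst _ _ _).symm
  · exact (pullback.lift_snd _ _ _).symm

/-- A natural function is constant on the coordinates. -/
theorem exists_const_val (η : Fam m i (pline Y)) {L : Type u} [Field L] [Algebra k L] (w : Tst m i Y L) :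
    ∃ g : L, ∀ c t τ, η.val L (liftTst w c t τ) = g := by
  classical
  let B := MvPolynomial (Option (Fin m × Fin i)) L
  let F := FractionRing B
  let ιB : L →ₐ[k] B := IsScalarTower.toAlgHom k L B
  let T : B := MvPolynomial.X none
  let U : Fin m → Fin i → B := fun j l => MvPolynomial.X (some (j, l))
  let G : Fin (1 + 1) → B := fun c => η.val B (liftTst (w.map ιB) c T U)
  let ρ : B →ₐ[k] F := IsScalarTower.toAlgHom k B F
  have hT : ρ T ≠ 0 := fun h => MvPolynomial.X_ne_zero (none : Option (Fin m × Fin i))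
    (IsFractionRing.injective B F (h.trans (map_zero ρ).symm))
  let ψL : B →ₐ[L] F := MvPolynomial.aeval fun o => o.elim (ρ T)⁻¹ fun p => -(ρ (U p.1 p.2) * (ρ T)⁻¹ ^ 2)
  let ψ : B →ₐ[k] F := ψL.restrictScalars k
  have hψι : ψ.comp ιB = ρ.comp ιB := AlgHom.ext fun r =>
    (ψL.commutes r).trans (IsScalarTower.algebraMap_apply L B F r)
  have hψT : ψ T = (ρ T)⁻¹ := MvPolynomial.aeval_X _ _
  have hψU : ∀ j l, ψ (U j l) = -(ρ (U j l) * (ρ T)⁻¹ ^ 2) := fun j l => MvPolynomial.aeval_X _ _
  have hrel : ∀ c, ρ (G c) = ψ (G (oth c)) := fun c => by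
    simp only [G, ← η.nat, liftTst_map, Tst.map_map, hψι]
    rw [liftTst_unit _ c hT, hψT]
    simp only [hψU]
  have hG : ∀ c, ∃ g : L, G c = MvPolynomial.C g := fun c => by
    refine eq_C_of_inverse (F := F) (G c) (G (oth c)) ψ.toRingHom (fun r => ?_) ?_ (fun p => ?_) (hrel c)
    · exact AlgHom.congr_fun hψι r
    · exact (MvPolynomial.aeval_X _ _).trans rfl
    · exact (MvPolynomial.aeval_X _ _).trans rfl
  choose g hg using hG
  have hgg : ∀ c, g c = g (oth c) := fun c => by
    refine MvPolynomial.C_injective (Option (Fin m × Fin i)) L (IsFractionRing.injective B F ?_)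
    have h := hrel c
    rw [hg, hg] at h
    exact h.trans (AlgHom.congr_fun hψι (g (oth c)))
  refine ⟨g 0, fun c t τ => ?_⟩
  let evL : B →ₐ[L] L := MvPolynomial.aeval fun o => o.elim t fun p => τ p.1 p.2
  let ev : B →ₐ[k] L := evL.restrictScalars k
  have hid : ev.comp ιB = AlgHom.id k L := AlgHom.ext fun r => evL.commutes r
  have hmap : (liftTst (w.map ιB) c T U).map ev = liftTst w c t τ := by
    rw [liftTst_map, Tst.map_map, hid, show w.map (AlgHom.id k L) = w from Tst.ext'
      (by show sMap _ ≫ w.a = w.a; simp [sMap]) (fun j l => by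
        show sMap _ ≫ w.v j l = w.v j l
        rw [show εmap (AlgHom.id k L).toRingHom = RingHom.id _ from RingHom.ext fun x => by ext <;> simp]
        simp [sMap])]
    rw [show ev T = t from MvPolynomial.aeval_X _ _,
      show (fun j l => ev (U j l)) = τ from funext fun j => funext fun l => MvPolynomial.aeval_X _ _]
  rw [← hmap, η.nat, show η.val B (liftTst (w.map ιB) c T U) = G c from rfl, hg]
  refine (evL.commutes (g c)).trans ?_
  rcases eq_or_eq_oth 0 c with rfl | rfl
  · rfl
  · exact (hgg 0).symm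

/-- Pulling back to the projective line is a bijection of natural functions. -/
theorem bijective_pull_plineπ (Y : Over (Spec (CommRingCat.of k))) :
    Function.Bijective (Fam.pull (m := m) (i := i) (plineπ Y)) := by
  constructor
  · intro η η' h
    refine Fam.ext ?_
    funext R _ _ _ w
    have h' := congrArg (fun e : Fam m i (pline Y) => e.val R (w.push (plineSec Y))) h
    have hw : (w.push (plineSec Y)).push (plineπ Y) = w := by rw [push_plineSec, push_liftTst]
    simpa [Fam.pull, hw] using h'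
  · intro η
    refine ⟨η.pull (plineSec Y), Fam.ext ?_⟩
    funext R _ _ _ w
    refine IsFractionRing.injective R (FractionRing R) ?_
    let ρ := IsScalarTower.toAlgHom k R (FractionRing R)
    show ρ (η.val R ((w.push (plineπ Y)).push (plineSec Y))) = ρ (η.val R w)
    rw [← η.nat, ← η.nat, ← Tst.push_map, ← Tst.push_map]
    obtain ⟨c, t, τ, hw⟩ := exists_liftTst (w.map ρ)
    obtain ⟨g, hg⟩ := exists_const_val η ((w.map ρ).push (plineπ Y))
    rw [push_plineSec, hg]
    conv_rhs => rw [hw]
    exact (hg c t τ).symm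

end Groth.Agent.FormEvalLib
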