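import Groth.Agent.FormEvalLib.Tst
import Groth.Agent.OmegaUnivLib.Univ
import Groth.Agent.JetVanLib.Wedge
import Groth.Agent.JetVanLib.Tensor

/-!
# Values of tests on local sections, and the functionals of a test with values in a field
-/

set_option autoImplicit false
set_option linter.style.haveILetI false
set_option linter.unusedSectionVars false
set_option backward.isDefEq.respectTransparency false
set_option maxHeartbeats 1000000

universe u

open CategoryTheory AlgebraicGeometry TopologicalSpace Opposite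
open Groth.Agent.JetVanLib (Fun tv tv_smul tv_add tv_res)

noncomputable section

namespace Groth.Agent.FormEvalLib

variable {X : Scheme.{u}}

theorem appTop_eq_appLE {Z W : Scheme.{u}} (g : Z ⟶ W) : g.appTop = g.appLE ⊤ ⊤ le_top := by
  simp [Scheme.Hom.appLE]

/-- The ring map of a morphism from a spectrum into an open. -/
def sec {A : Type u} [CommRing A] (v : Spec (CommRingCat.of A) ⟶ X) (U : X.Opens) (h : ⊤ ≤ v ⁻¹ᵁ U) :
    Γ(X, U) →+* A :=
  (v.appLE U ⊤ h ≫ (Scheme.ΓSpecIso (CommRingCat.of A)).hom).hom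

theorem sec_congr {A : Type u} [CommRing A] {v v' : Spec (CommRingCat.of A) ⟶ X} (e : v = v') (U : X.Opens)
    (h : ⊤ ≤ v ⁻¹ᵁ U) (h' : ⊤ ≤ v' ⁻¹ᵁ U) : sec v U h = sec v' U h' := by subst e; rfl

theorem sec_sMap {A B : Type u} [CommRing A] [CommRing B] (φ : A →+* B) (v : Spec (CommRingCat.of A) ⟶ X)
    (U : X.Opens) (h : ⊤ ≤ v ⁻¹ᵁ U) (h' : ⊤ ≤ (sMap φ ≫ v) ⁻¹ᵁ U) :
    sec (sMap φ ≫ v) U h' = φ.comp (sec v U h) := by
  have e : (sMap φ ≫ v).appLE U ⊤ h' ≫ (Scheme.ΓSpecIso _).hom =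
      (v.appLE U ⊤ h ≫ (Scheme.ΓSpecIso _).hom) ≫ CommRingCat.ofHom φ := by
    rw [Category.assoc, ← Scheme.ΓSpecIso_naturality, appTop_eq_appLE, ← Category.assoc (v.appLE U ⊤ h),
      Scheme.Hom.appLE_comp_appLE]
  exact congrArg CommRingCat.Hom.hom e

theorem sec_res {A : Type u} [CommRing A] (v : Spec (CommRingCat.of A) ⟶ X) {U V : X.Opens} (e : V ≤ U)
    (h : ⊤ ≤ v ⁻¹ᵁ V) (s : Γ(X, U)) :
    sec v V h (X.presheaf.map (homOfLE e).op s) = sec v U (h.trans fun _ hx => e hx) s := by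
  have := ConcreteCategory.congr_hom (Scheme.Hom.map_appLE v h (homOfLE e).op) s
  exact congrArg (Scheme.ΓSpecIso (CommRingCat.of A)).hom this

theorem sec_fromSpec {U : X.Opens} (hU : IsAffineOpen U) {A : Type u} [CommRing A] (ψ : Γ(X, U) →+* A)
    (h : ⊤ ≤ (Spec.map (CommRingCat.ofHom ψ) ≫ hU.fromSpec) ⁻¹ᵁ U) :
    sec (Spec.map (CommRingCat.ofHom ψ) ≫ hU.fromSpec) U h = ψ := by
  have h0 : (⊤ : (Spec Γ(X, U)).Opens) ≤ hU.fromSpec ⁻¹ᵁ U := hU.fromSpec_preimage_self.ge
  refine (sec_sMap ψ (show Spec (CommRingCat.of Γ(X, U)) ⟶ X from hU.fromSpec) U h0 h).trans ?_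
  have e : hU.fromSpec.appLE U ⊤ h0 ≫ (Scheme.ΓSpecIso Γ(X, U)).hom = 𝟙 _ := by
    rw [Scheme.Hom.appLE, hU.fromSpec_app_self, Category.assoc, Category.assoc, ← Functor.map_comp_assoc, ← op_comp,
      show homOfLE h0 ≫ eqToHom hU.fromSpec_preimage_self = 𝟙 _ from Subsingleton.elim _ _, op_id,
      CategoryTheory.Functor.map_id, Category.id_comp, Iso.inv_hom_id]
  exact RingHom.ext fun x => congrArg ψ (ConcreteCategory.congr_hom e x)

variable {k : Type u} [Field k] {f : X ⟶ Spec (CommRingCat.of k)} {m i : ℕ}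

section Rings

variable {R R' : Type u} [CommRing R] [CommRing R'] [Algebra k R] [Algebra k R'] (w : Tst m i (Over.mk f) R)

/-- The point of a test. -/
abbrev Tst.pt : Spec (CommRingCat.of R) ⟶ X := w.a

/-- A tangent vector of a test. -/
abbrev Tst.vec (j : Fin m) (l : Fin i) : Spec (CommRingCat.of (DualNumber R)) ⟶ X := w.v j l

theorem Tst.top_vec {U : X.Opens} (h : ⊤ ≤ w.pt ⁻¹ᵁ U) (j : Fin m) (l : Fin i) : ⊤ ≤ (w.vec j l) ⁻¹ᵁ U := by
  intro q _
  obtain ⟨p, rfl⟩ := surjective_jε R q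
  show (w.v j l) (jε R p) ∈ U
  rw [← Scheme.Hom.comp_apply, w.v_fst]
  exact h (Opens.mem_top p)

theorem Tst.fst_sec {U : X.Opens} (h : ⊤ ≤ w.pt ⁻¹ᵁ U) (j : Fin m) (l : Fin i) (s : Γ(X, U)) :
    TrivSqZeroExt.fst (sec (w.vec j l) U (w.top_vec h j l) s) = sec w.pt U h s := by
  have h' : ⊤ ≤ (jε R ≫ w.vec j l) ⁻¹ᵁ U := fun p _ => by
    show (jε R ≫ w.v j l) p ∈ U
    rw [w.v_fst]
    exact h (Opens.mem_top p)
  have e := RingHom.congr_fun (sec_sMap (fstH R) (w.vec j l) U (w.top_vec h j l) h') s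
  exact e.symm.trans (RingHom.congr_fun (sec_congr (w.v_fst j l) U h' h) s)

/-- The derivation of a tangent vector. -/
def Tst.dd {U : X.Opens} (h : ⊤ ≤ w.pt ⁻¹ᵁ U) (j : Fin m) (l : Fin i) (s : Γ(X, U)) : R :=
  TrivSqZeroExt.snd (sec (w.vec j l) U (w.top_vec h j l) s)

/-- The universal expression of a tensor of wedges of differentials. -/
def Tst.expr {U : X.Opens} (h : ⊤ ≤ w.pt ⁻¹ᵁ U) {n : ℕ} (c : Fin n → Γ(X, U))
    (hh : Fin n → Fin m → Fin i → Γ(X, U)) : R :=
  ∑ s, sec w.pt U h (c s) * ∏ j, Matrix.det (Matrix.of fun l l' => w.dd h j l' (hh s j l))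

theorem Tst.top_map (φ : R →ₐ[k] R') {U : X.Opens} (h : ⊤ ≤ w.pt ⁻¹ᵁ U) : ⊤ ≤ (w.map φ).pt ⁻¹ᵁ U :=
  fun p _ => h (Opens.mem_top (sMap φ.toRingHom p))

theorem Tst.dd_map (φ : R →ₐ[k] R') {U : X.Opens} (h : ⊤ ≤ w.pt ⁻¹ᵁ U) (j : Fin m) (l : Fin i) (s : Γ(X, U)) :
    (w.map φ).dd (w.top_map φ h) j l s = φ (w.dd h j l s) := by
  have e := RingHom.congr_fun (sec_sMap (εmap φ.toRingHom) (w.vec j l) U (w.top_vec h j l)
    ((w.map φ).top_vec (w.top_map φ h) j l)) s
  exact (congrArg TrivSqZeroExt.snd e).trans (snd_εmap _ _)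

theorem Tst.expr_map (φ : R →ₐ[k] R') {U : X.Opens} (h : ⊤ ≤ w.pt ⁻¹ᵁ U) {n : ℕ} (c : Fin n → Γ(X, U))
    (hh : Fin n → Fin m → Fin i → Γ(X, U)) :
    (w.map φ).expr (w.top_map φ h) c hh = φ (w.expr h c hh) := by
  simp only [Tst.expr, map_sum, map_mul, map_prod, AlgHom.map_det]
  refine Finset.sum_congr rfl fun s _ => congrArg₂ (· * ·) ?_ (Finset.prod_congr rfl fun j _ => congrArg Matrix.det ?_)
  · exact RingHom.congr_fun (sec_sMap φ.toRingHom w.pt U h (w.top_map φ h)) _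
  · ext l l'
    exact w.dd_map φ h j l' _

theorem Tst.dd_const {U : X.Opens} (h : ⊤ ≤ w.pt ⁻¹ᵁ U) (j : Fin m) (l : Fin i) (c : Γ(Spec (CommRingCat.of k), ⊤)) :
    w.dd h j l (f.appLE ⊤ U le_top c) = 0 := by
  have e0 : w.vec j l ≫ f = str k (DualNumber R) := w.v_over j l
  have e : f.appLE ⊤ U le_top ≫ (w.vec j l).appLE U ⊤ (w.top_vec h j l) ≫ (Scheme.ΓSpecIso _).hom =
      (Scheme.ΓSpecIso _).hom ≫ CommRingCat.ofHom (algebraMap k (DualNumber R)) := by
    rw [← Category.assoc, Scheme.Hom.appLE_comp_appLE, ← Scheme.ΓSpecIso_naturality, appTop_eq_appLE]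
    congr 1
    simp only [e0]
  show TrivSqZeroExt.snd (sec _ U _ _) = _
  rw [show sec (w.vec j l) U (w.top_vec h j l) (f.appLE ⊤ U le_top c) =
    algebraMap k (DualNumber R) ((Scheme.ΓSpecIso _).hom c) from ConcreteCategory.congr_hom e c,
    TrivSqZeroExt.algebraMap_eq_inl', TrivSqZeroExt.snd_inl]

end Rings

section Fields

variable {K : Type u} [Field K] [Algebra k K]

/-- Evaluation at the only point. -/
def kev {V : (Spec (CommRingCat.of K)).Opens} (h : ⊤ ≤ V) : Γ(Spec (CommRingCat.of K), V) →+* K :=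
  ((Spec (CommRingCat.of K)).presheaf.map (homOfLE h).op ≫ (Scheme.ΓSpecIso (CommRingCat.of K)).hom).hom

/-- The section with a given value. -/
def kin (V : (Spec (CommRingCat.of K)).Opens) : K →+* Γ(Spec (CommRingCat.of K), V) :=
  ((Scheme.ΓSpecIso (CommRingCat.of K)).inv ≫ (Spec (CommRingCat.of K)).presheaf.map (homOfLE le_top).op).hom

theorem kev_kin {V : (Spec (CommRingCat.of K)).Opens} (h : ⊤ ≤ V) (x : K) : kev h (kin V x) = x := by
  have e : ((Scheme.ΓSpecIso (CommRingCat.of K)).inv ≫ (Spec (CommRingCat.of K)).presheaf.map (homOfLE le_top).op) ≫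
      (Spec (CommRingCat.of K)).presheaf.map (homOfLE h).op ≫ (Scheme.ΓSpecIso (CommRingCat.of K)).hom = 𝟙 _ := by
    rw [Category.assoc, ← Functor.map_comp_assoc, ← op_comp,
      show homOfLE h ≫ homOfLE (le_top : V ≤ ⊤) = 𝟙 _ from Subsingleton.elim _ _, op_id, CategoryTheory.Functor.map_id,
      Category.id_comp, Iso.inv_hom_id]
  exact ConcreteCategory.congr_hom e x

theorem kev_res {V V' : (Spec (CommRingCat.of K)).Opens} (e : V' ≤ V) (h : ⊤ ≤ V') (x : Γ(Spec (CommRingCat.of K), V)) :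
    kev h ((Spec (CommRingCat.of K)).presheaf.map (homOfLE e).op x) = kev (h.trans e) x := by
  have e' : (Spec (CommRingCat.of K)).presheaf.map (homOfLE e).op ≫ (Spec (CommRingCat.of K)).presheaf.map (homOfLE h).op =
      (Spec (CommRingCat.of K)).presheaf.map (homOfLE (h.trans e)).op := by
    rw [← Functor.map_comp]
    rfl
  exact congrArg (Scheme.ΓSpecIso _).hom (ConcreteCategory.congr_hom e' x)

/-- Sections over an open of the spectrum of a field are determined by their values. -/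
theorem kext {V : (Spec (CommRingCat.of K)).Opens} {x y : Γ(Spec (CommRingCat.of K), V)}
    (h : ∀ hV : ⊤ ≤ V, kev hV x = kev hV y) : x = y := by
  by_cases hV : ⊤ ≤ V
  · obtain rfl : V = ⊤ := le_antisymm le_top hV
    have h0 := h hV
    rw [kev, show (homOfLE hV).op = 𝟙 _ from Subsingleton.elim _ _, CategoryTheory.Functor.map_id, Category.id_comp] at h0
    exact (ConcreteCategory.bijective_of_isIso (Scheme.ΓSpecIso (CommRingCat.of K)).hom).1 h0
  · obtain rfl : V = ⊥ := le_bot_iff.1 fun p hp => (hV fun q _ => (show q = p from Subsingleton.elim (α := PrimeSpectrum K) q p) ▸ hp).elim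
    exact Subsingleton.elim _ _

variable (w : Tst m i (Over.mk f) K) (j : Fin m) (l : Fin i)

/-- The value of a functional along the point of a test. -/
def fv {F : X.Modules} (θ : Fun w.pt F) {U : X.Opens} (h : ⊤ ≤ w.pt ⁻¹ᵁ U) (s : Γ(F, U)) : K :=
  kev h (tv w.pt θ U s)

open scoped Classical in
/-- The derivation of a tangent vector into the functions on the point. -/
def Tst.der (U : X.Opens) : Γ(X, U) →+ Γ(Spec (CommRingCat.of K), w.pt ⁻¹ᵁ U) :=
  if h : ⊤ ≤ w.pt ⁻¹ᵁ U then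
    AddMonoidHom.mk' (fun s => kin (w.pt ⁻¹ᵁ U) (w.dd h j l s)) fun a b => by
      simp only [Tst.dd, map_add, TrivSqZeroExt.snd_add]
  else 0

theorem kev_app {U : X.Opens} (h : ⊤ ≤ w.pt ⁻¹ᵁ U) (r : Γ(X, U)) : kev h (w.pt.app U r) = sec w.pt U h r := rfl

theorem Tst.kev_der {U : X.Opens} (h : ⊤ ≤ w.pt ⁻¹ᵁ U) (s : Γ(X, U)) :
    kev h (w.der j l U s) = w.dd h j l s := by
  rw [Tst.der, dif_pos h]
  exact kev_kin h _

/-- The functional on differentials of a tangent vector. -/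
theorem exists_tanFun [QuasiSeparated f] : ∃ θ : Fun w.pt (Omega.sheaf f),
    ∀ (U : X.Opens) (h : ⊤ ≤ w.pt ⁻¹ᵁ U) (s : Γ(X, U)), fv w θ h (OmegaSh.dSect f U s) = w.dd h j l s := by
  let D : OmegaSh.Der f ((Scheme.Modules.pushforward w.pt).obj (Coh.structureModule (Spec (CommRingCat.of K)))) :=
    OmegaUnivLib.mkDer (w.der j l)
      (fun U a b => kext fun hV => by
        show kev hV (w.der j l U (a * b)) =
          kev hV (w.pt.app U a * w.der j l U b + w.pt.app U b * w.der j l U a)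
        refine (w.kev_der j l hV (a * b)).trans ?_
        rw [map_add, map_mul, map_mul]
        refine Eq.trans ?_ (congrArg₂ (· + ·) (congrArg₂ (· * ·) (kev_app w hV a).symm (w.kev_der j l hV b).symm)
          (congrArg₂ (· * ·) (kev_app w hV b).symm (w.kev_der j l hV a).symm))
        show TrivSqZeroExt.snd (sec (w.vec j l) U (w.top_vec hV j l) (a * b)) = _
        rw [map_mul, DualNumber.snd_mul]
        refine (congrArg₂ (· + ·) (congrArg (· * _) (w.fst_sec hV j l a))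
          (congrArg (_ * ·) (w.fst_sec hV j l b))).trans ?_
        simp only [Tst.dd]
        ring)
      (fun {U V} e s => kext fun hV => by
        show kev hV (w.der j l U (X.presheaf.map e.op s)) =
          kev hV ((Spec (CommRingCat.of K)).presheaf.map (homOfLE (fun _ hx => e.le hx : w.pt ⁻¹ᵁ U ≤ w.pt ⁻¹ᵁ V)).op (w.der j l V s))
        rw [kev_res, w.kev_der j l hV, w.kev_der j l]
        exact congrArg TrivSqZeroExt.snd (sec_res (w.vec j l) e.le _ s))
      (fun V c => kext fun hV => by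
        obtain rfl : V = ⊤ := top_le_iff.1 fun q _ => by
          obtain ⟨p⟩ := (inferInstance : Nonempty (PrimeSpectrum K))
          exact (show f (w.pt p) = q from Subsingleton.elim (α := PrimeSpectrum k) _ _) ▸ hV (Opens.mem_top p)
        refine Eq.trans ?_ (map_zero (kev hV)).symm
        refine (w.kev_der j l hV _).trans ?_
        rw [Scheme.Hom.app_eq_appLE]
        exact w.dd_const hV j l c)
  obtain ⟨θ, hθ⟩ := OmegaUnivLib.exists_hom_omega f D
  refine ⟨θ, fun U h s => ?_⟩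
  have e : θ.app U (OmegaSh.dSect f U s) = D.app U s := congrArg (fun E => OmegaSh.Der.app E U s) hθ
  exact (congrArg (kev h) e).trans (w.kev_der j l h s)

end Fields

end Groth.Agent.FormEvalLib
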