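import Groth.Agent.FormEvalLib.Sec
import Groth.Agent.OmegaAffLib.Main
import Groth.Agent.SFFLib.Chart
import Groth.Agent.InfLiftLib.Smooth
import Groth.Agent.ExtPowLib.Unique
import Groth.Agent.JetVanLib.Curve
import Groth.Prelude.Def_CohB1

/-!
# Values of global tensor forms on tests

A global section of the `m`-th tensor power of an `i`-th exterior power of the differentials takes
a value at every test with values in a domain, naturally in the domain.
-/

set_option autoImplicit false
set_option linter.style.haveILetI false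
set_option linter.unusedSectionVars false
set_option backward.isDefEq.respectTransparency false
set_option maxHeartbeats 1000000

universe u

open CategoryTheory AlgebraicGeometry TopologicalSpace Opposite
open Groth.Agent.JetVanLib (Fun tv tv_smul tv_add tv_res tv_sum tv_lift prodPairing isFrame_pairS)
open Groth.Agent.DCohLib Groth.Agent.DegDevLib

noncomputable section

namespace Groth.Agent.FormEvalLib

variable {X : Scheme.{u}} (L : X.Modules)

/-- The product of a tuple of sections in the tensor power. -/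
def pureT {U : X.Opens} : ∀ (m : ℕ), (Fin m → Γ(L, U)) → Γ(CohB1.tensorPow L m, U)
  | 0, _ => (1 : Γ(X, U))
  | m + 1, s => pairS (CohB1.tensorPow L m) L (pureT m (Fin.init (α := fun _ => Γ(L, U)) s)) (s (Fin.last m))

variable {L}

/-- Products of functionals are functionals of the tensor power. -/
theorem exists_powFun {P : Scheme.{u}} {a : P ⟶ X} : ∀ (m : ℕ) (θ : Fin m → Fun a L),
    ∃ Θ : Fun a (CohB1.tensorPow L m), ∀ (U : X.Opens), IsAffineOpen U → ∀ s : Fin m → Γ(L, U),
      tv a Θ U (pureT L m s) = ∏ j, tv a (θ j) U (s j)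
  | 0, _ => by
    obtain ⟨Θ, hΘ⟩ := JetVanLib.exists_unitFun (f := a)
    exact ⟨Θ, fun U hU s => ((hΘ U hU (1 : Γ(X, U))).trans (map_one _)).trans Finset.prod_empty.symm⟩
  | m + 1, θ => by
    obtain ⟨Θ, hΘ⟩ := exists_powFun m (Fin.init (α := fun _ => Fun a L) θ)
    refine ⟨(show Fun a (tmod (CohB1.tensorPow L m) L) from (prodPairing Θ (θ (Fin.last m))).lift),
      fun U hU s => ?_⟩
    refine (tv_lift Θ (θ (Fin.last m)) U (pureT L m (Fin.init s)) (s (Fin.last m))).trans ?_
    rw [hΘ U hU, Fin.prod_univ_castSucc]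
    rfl

/-- Products of tuples from a frame form a frame. -/
theorem exists_powFrame {U : X.Opens} {n : ℕ} {e : Fin n → Γ(L, U)} (he : IsFrame U e) : ∀ m : ℕ,
    ∃ (N : ℕ) (B : Fin N → Fin m → Fin n), Function.Injective B ∧
      IsFrame (E := CohB1.tensorPow L m) U fun a => pureT L m fun j => e (B a j)
  | 0 => ⟨1, fun _ j => j.elim0, fun a b _ => Subsingleton.elim a b,
      gen_frame (ParaFLib.gen_one (X := X) U)⟩
  | m + 1 => by
    obtain ⟨N, B, hB, hF⟩ := exists_powFrame he m
    refine ⟨N * n, fun a => Fin.snoc (α := fun _ => Fin n) (B (finProdFinEquiv.symm a).1) (finProdFinEquiv.symm a).2,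
      fun a b hab => finProdFinEquiv.symm.injective (Prod.ext
        (hB (by simpa using congrArg Fin.init hab)) (by simpa using congrFun hab (Fin.last m))), ?_⟩
    have h := isFrame_pairS hF he
    have e1 : (fun a => pureT L (m + 1) fun j => e (Fin.snoc (α := fun _ => Fin n) (B (finProdFinEquiv.symm a).1) (finProdFinEquiv.symm a).2 j)) =
        fun a => pairS (CohB1.tensorPow L m) L (pureT L m fun j => e (B (finProdFinEquiv.symm a).1 j))
          (e (finProdFinEquiv.symm a).2) := funext fun a => by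
      show pairS _ _ (pureT L m (Fin.init (α := fun _ => Γ(L, U)) _)) _ = _
      refine (congrArg (pairS (CohB1.tensorPow L m) L _) (congrArg e (Fin.snoc_last _ _))).trans ?_
      refine congrArg (fun z => pairS (CohB1.tensorPow L m) L (pureT L m z) _) (funext fun j => ?_)
      show e (Fin.snoc (α := fun _ => Fin n) _ _ j.castSucc) = _
      rw [Fin.snoc_castSucc]
    rw [e1]
    exact h

/-- Products of tuples from a span lie in the span of the products. -/
theorem pureT_mem_span {U : X.Opens} (G : Set Γ(L, U)) : ∀ (m : ℕ) (s : Fin m → Γ(L, U)),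
    (∀ j, s j ∈ Submodule.span Γ(X, U) G) →
    pureT L m s ∈ Submodule.span Γ(X, U) {x : Γ(CohB1.tensorPow L m, U) | ∃ g : Fin m → Γ(L, U), (∀ j, g j ∈ G) ∧ pureT L m g = x}
  | 0, s, _ => Submodule.subset_span ⟨s, fun j => j.elim0, rfl⟩
  | m + 1, s, hs => by
    let T := {x : Γ(CohB1.tensorPow L (m + 1), U) | ∃ g : Fin (m + 1) → Γ(L, U), (∀ j, g j ∈ G) ∧ pureT L (m + 1) g = x}
    have h1 : ∀ x ∈ Submodule.span Γ(X, U) {x : Γ(CohB1.tensorPow L m, U) | ∃ g : Fin m → Γ(L, U), (∀ j, g j ∈ G) ∧ pureT L m g = x},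
        ∀ y ∈ Submodule.span Γ(X, U) G,
        (show Γ(CohB1.tensorPow L (m + 1), U) from pairS (CohB1.tensorPow L m) L x y) ∈ Submodule.span Γ(X, U) T := by
      intro x hx
      induction hx using Submodule.span_induction with
      | mem x hx =>
        obtain ⟨g, hg, rfl⟩ := hx
        intro y hy
        induction hy using Submodule.span_induction with
        | mem y hy =>
          refine Submodule.subset_span ⟨Fin.snoc g y, fun j => ?_, ?_⟩
          · induction j using Fin.lastCases with
            | last => simpa using hy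
            | cast j => simpa using hg j
          · show pairS _ _ (pureT L m (Fin.init (α := fun _ => Γ(L, U)) _)) _ = _
            rw [Fin.init_snoc, Fin.snoc_last]
        | zero =>
          rw [← zero_smul Γ(X, U) (0 : Γ(L, U)), pairS_smul_right, zero_smul]
          exact Submodule.zero_mem _
        | add y z _ _ hy hz => rw [pairS_add_right]; exact Submodule.add_mem _ hy hz
        | smul c y _ hy => rw [pairS_smul_right]; exact Submodule.smul_mem _ c hy
      | zero =>
        intro y _
        rw [← zero_smul Γ(X, U) (0 : Γ(CohB1.tensorPow L m, U)), pairS_smul_left, zero_smul]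
        exact Submodule.zero_mem _
      | add x z _ _ hx hz => exact fun y hy => by rw [pairS_add_left]; exact Submodule.add_mem _ (hx y hy) (hz y hy)
      | smul c x _ hx => exact fun y hy => by rw [pairS_smul_left]; exact Submodule.smul_mem _ c (hx y hy)
    exact h1 _ (pureT_mem_span G m (Fin.init s) fun j => hs _) _ (hs _)

variable {k : Type u} [Field k] {f : X ⟶ Spec (CommRingCat.of k)} [QuasiSeparated f] {m i : ℕ}
  (φ : ExtIso i (Omega.sheaf f) L) (hφ : Compat φ)

/-- A wedge of differentials. -/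
abbrev dwedge (U : X.affineOpens) (h : Fin i → Γ(X, U.1)) : Γ(L, U.1) :=
  wsec φ U fun l => OmegaSh.dSect f U.1 (h l)

/-- The differentials generate over an affine open. -/
theorem span_dwedge (U : X.affineOpens) : Submodule.span Γ(X, U.1) (Set.range (dwedge φ U)) = ⊤ := by
  have h := exteriorPower.ιMulti_span_of_span Γ(X, U.1) i
    (M := ↑((Omega.sheaf f).val.obj (op U.1))) (OmegaUnivLib.span_dSect f (U := U.1)
      ⟨U.2, ⊤, isAffineOpen_top _, le_top⟩)
  refine eq_top_iff.2 fun z hz => ?_
  obtain ⟨y, rfl⟩ := (φ U).symm.surjective z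
  clear hz
  have hy : y ∈ (⊤ : Submodule Γ(X, U.1) _) := trivial
  rw [← h] at hy
  induction hy using Submodule.span_induction with
  | mem y hy =>
    obtain ⟨v, hv, rfl⟩ := hy
    choose g hg using fun l => hv (Set.mem_range_self l)
    exact Submodule.subset_span ⟨g, congrArg (wsec φ U) (funext hg)⟩
  | zero => rw [map_zero]; exact Submodule.zero_mem _
  | add y z _ _ hy hz => rw [map_add]; exact Submodule.add_mem _ hy hz
  | smul c y _ hy => rw [(φ U).symm.map_smul]; exact Submodule.smul_mem _ c hy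

/-- Products of wedges from a frame of the differentials form a frame of the tensor forms. -/
theorem exists_formFrame (hL : ExtPow.IsExtPow i (Omega.sheaf f) L) (V : X.affineOpens) {r : ℕ}
    {e : Fin r → Γ(Omega.sheaf f, V.1)} (he : IsFrame V.1 e) (m : ℕ) :
    ∃ (N : ℕ) (B : Fin N → Fin m → Set.powersetCard (Fin r) i), Function.Injective B ∧
      IsFrame (E := CohB1.tensorPow L m) V.1 fun a => pureT L m fun j =>
        wsec φ V fun l => e (Set.powersetCard.ofFinEmbEquiv.symm (B a j) l) := by
  classical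
  haveI : Coh.IsQCoh (Omega.sheaf f) := OmegaAffLib.isQCoh_omega f
  haveI := ExtPowLib.isQCoh_of_isExtPow hL
  let b := (IsFrame.basis he : Module.Basis (Fin r) Γ(X, V.1) Γ(Omega.sheaf f, V.1))
  letI : Fintype (Set.powersetCard (Fin r) i) := Fintype.ofFinite _
  let σ := (Fintype.equivFin (Set.powersetCard (Fin r) i))
  let B := ((b.exteriorPower i).map (φ V).symm).reindex σ
  let eL : Fin (Fintype.card (Set.powersetCard (Fin r) i)) → Γ(L, V.1) := fun a =>
    wsec φ V fun l => e (Set.powersetCard.ofFinEmbEquiv.symm (σ.symm a) l)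
  have hB : ∀ a, B a = eL a := fun a => by
    simp only [B, Module.Basis.reindex_apply, Module.Basis.map_apply, exteriorPower.basis_apply,
      exteriorPower.ιMulti_family, b, IsFrame.basis_apply]
    rfl
  have hbij : Function.Bijective (Fintype.linearCombination Γ(X, V.1) eL) := by
    have e' : ⇑(Fintype.linearCombination Γ(X, V.1) eL) = ⇑B.equivFun.symm := by
      funext c
      rw [Fintype.linearCombination_apply, B.equivFun_symm_apply]
      exact Finset.sum_congr rfl fun a _ => congrArg (c a • ·) (hB a).symm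
    rw [e']
    exact B.equivFun.symm.bijective
  obtain ⟨N, T, hTi, hT⟩ := exists_powFrame (SFFLib.isFrame_of_bijective L V.2 eL hbij) m
  exact ⟨N, fun a j => σ.symm (T a j), fun a a' h => hTi (funext fun j => σ.symm.injective (congrFun h j)), hT⟩

/-- Near every point a global tensor form is a sum of products of wedges of differentials. -/
theorem exists_pres [Smooth f] (hL : ExtPow.IsExtPow i (Omega.sheaf f) L) (σ : Γ(CohB1.tensorPow L m, ⊤)) (x : X) :
    ∃ (U : X.affineOpens) (n : ℕ) (c : Fin n → Γ(X, U.1)) (hh : Fin n → Fin m → Fin i → Γ(X, U.1)), x ∈ U.1 ∧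
      (CohB1.tensorPow L m).presheaf.map (homOfLE le_top).op σ =
        ∑ s, c s • pureT L m fun j => dwedge φ U (hh s j) := by
  classical
  haveI : Coh.IsQCoh (Omega.sheaf f) := OmegaAffLib.isQCoh_omega f
  haveI := ExtPowLib.isQCoh_of_isExtPow hL
  obtain ⟨V, r, e, hV, hxV, he⟩ := JetVanLib.exists_affine_frame (InfLiftLib.isFinLocFree_omega f) x
  let V' : X.affineOpens := ⟨V, hV⟩
  obtain ⟨N, T, -, hT⟩ := exists_formFrame φ hL V' he m
  obtain ⟨c, hc⟩ := hT.bijective.2 ((CohB1.tensorPow L m).presheaf.map (homOfLE le_top).op σ)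
  have hmem : (CohB1.tensorPow L m).presheaf.map (homOfLE le_top).op σ ∈
      Submodule.span Γ(X, V'.1) {x | ∃ g : Fin m → Γ(L, V'.1), (∀ j, g j ∈ Set.range (dwedge φ V')) ∧ pureT L m g = x} := by
    rw [← hc, Fintype.linearCombination_apply]
    exact Submodule.sum_mem _ fun a _ => Submodule.smul_mem _ _
      (pureT_mem_span _ m _ fun j => by rw [span_dwedge]; trivial)
  obtain ⟨n, c', g, hg⟩ := Submodule.mem_span_set'.1 hmem
  choose g' hg' hg'' using fun s => (g s).2
  choose hh hhh using fun s j => hg' s j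
  refine ⟨V', n, c', hh, hxV, hg.symm.trans (Finset.sum_congr rfl fun s _ => congrArg (c' s • ·) ?_)⟩
  exact (hg'' s).symm.trans (congrArg (pureT L m) (funext fun j => (hhh s j).symm))

section Fields

variable {K : Type u} [Field K] [Algebra k K] (w : Tst m i (Over.mk f) K)

include hφ in
/-- The functional of a test with values in a field. -/
theorem exists_valFun : ∃ (u : Fin m → Fin i → Fun w.pt (Omega.sheaf f)) (Θ : Fun w.pt (CohB1.tensorPow L m)),
    (∀ j l (U : X.Opens) (h : ⊤ ≤ w.pt ⁻¹ᵁ U) (s : Γ(X, U)), fv w (u j l) h (OmegaSh.dSect f U s) = w.dd h j l s) ∧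
    ∀ (U : X.affineOpens) (h : ⊤ ≤ w.pt ⁻¹ᵁ U.1) (s : Fin m → Fin i → Γ(Omega.sheaf f, U.1)),
      fv w Θ h (pureT L m fun j => wsec φ U (s j)) =
        ∏ j, Matrix.det (Matrix.of fun l l' => fv w (u j l') h (s j l)) := by
  choose u hu using fun j l => exists_tanFun w j l
  choose θ hθ using fun j => JetVanLib.exists_minorFun (f := w.pt) (u j) (id : Fin i → Fin i) φ hφ
  obtain ⟨Θ, hΘ⟩ := exists_powFun (L := L) m θ
  refine ⟨u, Θ, hu, fun U h s => ?_⟩
  rw [fv, hΘ U.1 U.2, map_prod]
  refine Finset.prod_congr rfl fun j _ => ?_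
  rw [hθ, JetVanLib.minor, RingHom.map_det]
  rfl

/-- The value at a test with values in a field. -/
def fval (σ : Γ(CohB1.tensorPow L m, ⊤)) : K :=
  fv w (exists_valFun φ hφ w).choose_spec.choose (U := ⊤) (fun _ _ => trivial) σ

theorem fval_eq (σ : Γ(CohB1.tensorPow L m, ⊤)) (U : X.affineOpens) (h : ⊤ ≤ w.pt ⁻¹ᵁ U.1) {n : ℕ}
    (c : Fin n → Γ(X, U.1)) (hh : Fin n → Fin m → Fin i → Γ(X, U.1))
    (e : (CohB1.tensorPow L m).presheaf.map (homOfLE le_top).op σ = ∑ s, c s • pureT L m fun j => dwedge φ U (hh s j)) :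
    fval φ hφ w σ = w.expr h c hh := by
  have hres : fv w (exists_valFun φ hφ w).choose_spec.choose h ((CohB1.tensorPow L m).presheaf.map (homOfLE le_top).op σ) =
      fval φ hφ w σ := by
    rw [fv, tv_res w.pt _ (le_top : U.1 ≤ ⊤), kev_res]
    rfl
  rw [← hres, e, fv, tv_sum, map_sum, Tst.expr]
  refine Finset.sum_congr rfl fun s _ => ?_
  rw [tv_smul, map_mul, kev_app w h]
  refine congrArg (sec w.pt U.1 h (c s) * ·) ?_
  obtain ⟨hu, hΘ⟩ := (exists_valFun φ hφ w).choose_spec.choose_spec
  refine (hΘ U h fun j l => OmegaSh.dSect f U.1 (hh s j l)).trans ?_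
  exact Finset.prod_congr rfl fun j _ => congrArg Matrix.det (Matrix.ext fun l l' => hu j l' U.1 h _)

end Fields

include hφ in
/-- Near a prime of a domain the value is given by one element of the local ring. -/
theorem exists_local_val [Smooth f] (hL : ExtPow.IsExtPow i (Omega.sheaf f) L) (σ : Γ(CohB1.tensorPow L m, ⊤))
    {R : Type u} [CommRing R] [IsDomain R] [Algebra k R] (w : Tst m i (Over.mk f) R) (q : Ideal R) [q.IsPrime] :
    ∃ e : Localization.AtPrime q, ∀ (K : Type u) [Field K] [Algebra k K] (ι : Localization.AtPrime q →ₐ[k] K),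
      fval φ hφ (w.map (ι.comp (IsScalarTower.toAlgHom k R (Localization.AtPrime q)))) σ = ι e := by
  obtain ⟨U, n, c, hh, hx, he⟩ := exists_pres φ hL σ (w.pt ⟨q, inferInstance⟩)
  let wq := w.map (IsScalarTower.toAlgHom k R (Localization.AtPrime q))
  have h : ⊤ ≤ wq.pt ⁻¹ᵁ U.1 := fun p _ => by
    have e : sMap (algebraMap R (Localization.AtPrime q)) (IsLocalRing.closedPoint (Localization.AtPrime q)) =
        (⟨q, inferInstance⟩ : PrimeSpectrum R) :=
      PrimeSpectrum.ext (IsLocalization.AtPrime.comap_maximalIdeal (R := R) (Localization.AtPrime q) q)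
    have hc : wq.pt (IsLocalRing.closedPoint (Localization.AtPrime q)) ∈ U.1 :=
      (show wq.pt (IsLocalRing.closedPoint (Localization.AtPrime q)) = w.pt ⟨q, inferInstance⟩ from
        congrArg w.pt e).symm ▸ hx
    exact ((IsLocalRing.specializes_closedPoint p).map wq.pt.continuous).mem_open U.1.2 hc
  refine ⟨wq.expr h c hh, fun K _ _ ι => ?_⟩
  rw [← Tst.map_map]
  rw [fval_eq φ hφ _ σ U (wq.top_map ι h) c hh he]
  exact wq.expr_map ι h c hh

/-- A map to a field extends to the local ring of a prime where it does not vanish off the prime. -/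
theorem exists_lift_local {R : Type u} [CommRing R] [IsDomain R] [Algebra k R] {K : Type u} [Field K] [Algebra k K]
    (q : Ideal R) [q.IsPrime] (ρ : R →ₐ[k] K) (hρ : ∀ s ∉ q, ρ s ≠ 0) :
    ∃ ι : Localization.AtPrime q →ₐ[k] K, ι.comp (IsScalarTower.toAlgHom k R (Localization.AtPrime q)) = ρ ∧
      (Function.Injective ρ → Function.Injective ι) := by
  have hu : ∀ s : q.primeCompl, IsUnit (ρ.toRingHom s) := fun s => isUnit_iff_ne_zero.2 (hρ s s.2)
  refine ⟨{ IsLocalization.lift (S := Localization.AtPrime q) hu with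
      commutes' := fun c => by
        show IsLocalization.lift hu (algebraMap k (Localization.AtPrime q) c) = _
        rw [IsScalarTower.algebraMap_apply k R (Localization.AtPrime q), IsLocalization.lift_eq]
        exact ρ.commutes c }, AlgHom.ext fun r => IsLocalization.lift_eq hu r, fun hinj => ?_⟩
  show Function.Injective (IsLocalization.lift (S := Localization.AtPrime q) hu)
  rw [IsLocalization.lift_injective_iff]
  exact fun x y => ⟨fun h => congrArg ρ (IsLocalization.injective (Localization.AtPrime q) q.primeCompl_le_nonZeroDivisors h),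
    fun h => congrArg _ (hinj h)⟩

include hφ in
/-- The value at a test with values in a domain. -/
theorem exists_val [Smooth f] (hL : ExtPow.IsExtPow i (Omega.sheaf f) L) (σ : Γ(CohB1.tensorPow L m, ⊤))
    {R : Type u} [CommRing R] [IsDomain R] [Algebra k R] (w : Tst m i (Over.mk f) R) :
    ∃ r : R, ∀ (K : Type u) [Field K] [Algebra k K] (ρ : R →ₐ[k] K), fval φ hφ (w.map ρ) σ = ρ r := by
  classical
  let ρ₀ := IsScalarTower.toAlgHom k R (FractionRing R)
  have hρ₀ : Function.Injective ρ₀ := IsFractionRing.injective R (FractionRing R)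
  have hι : ∀ (q : Ideal R) [q.IsPrime], ∃ ι : Localization.AtPrime q →ₐ[k] FractionRing R,
      ι.comp (IsScalarTower.toAlgHom k R (Localization.AtPrime q)) = ρ₀ ∧ Function.Injective ι := fun q _ => by
    obtain ⟨ι, h1, h2⟩ := exists_lift_local q ρ₀ fun s hs h => hs (by
      rw [hρ₀ (h.trans (map_zero ρ₀).symm)]
      exact q.zero_mem)
    exact ⟨ι, h1, h2 hρ₀⟩
  let r₀ := fval φ hφ (w.map ρ₀) σ
  let I : Ideal R :=
    { carrier := {s | ∃ t, ρ₀ s * r₀ = ρ₀ t}
      add_mem' := fun {a b} ⟨t, ht⟩ ⟨t', ht'⟩ => ⟨t + t', by rw [map_add, map_add, add_mul, ht, ht']⟩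
      zero_mem' := ⟨0, by simp⟩
      smul_mem' := fun c a ⟨t, ht⟩ => ⟨c * t, by rw [smul_eq_mul, map_mul, map_mul, mul_assoc, ht]⟩ }
  have hI : I = ⊤ := by
    by_contra hne
    obtain ⟨q, hq, hIq⟩ := Ideal.exists_le_maximal I hne
    obtain ⟨ι, hιρ, -⟩ := hι q
    obtain ⟨e, he⟩ := exists_local_val φ hφ hL σ w q
    obtain ⟨t, s, rfl⟩ := IsLocalization.exists_mk'_eq q.primeCompl e
    refine s.2 (hIq ⟨t, ?_⟩)
    have h := he (FractionRing R) ι
    rw [hιρ] at h
    show ρ₀ s * fval φ hφ (w.map ρ₀) σ = ρ₀ t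
    rw [h, ← hιρ]
    simp only [AlgHom.comp_apply, IsScalarTower.coe_toAlgHom', ← map_mul]
    exact congrArg ι (IsLocalization.mk'_spec' _ t s)
  obtain ⟨r, hr⟩ : (1 : R) ∈ I := hI ▸ trivial
  rw [map_one, one_mul] at hr
  refine ⟨r, fun K _ _ ρ => ?_⟩
  let q := RingHom.ker ρ.toRingHom
  haveI : q.IsPrime := RingHom.ker_isPrime ρ.toRingHom
  obtain ⟨ι, hιρ, hιi⟩ := hι q
  obtain ⟨e, he⟩ := exists_local_val φ hφ hL σ w q
  obtain ⟨ι', hι', -⟩ := exists_lift_local q ρ fun s hs h => hs h
  have h1 := he (FractionRing R) ι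
  rw [hιρ] at h1
  have h2 : e = algebraMap R (Localization.AtPrime q) r := hιi (h1.symm.trans (hr.trans (AlgHom.congr_fun hιρ r).symm))
  rw [← hι', he K ι', h2]
  rfl

end Groth.Agent.FormEvalLib

namespace Groth.Agent.FormEvalLib

variable {X : Scheme.{u}} {L : X.Modules} {k : Type u} [Field k] {f : X ⟶ Spec (CommRingCat.of k)}
  [QuasiSeparated f] [Smooth f] {m i : ℕ} (φ : ExtIso i (Omega.sheaf f) L) (hφ : Compat φ)
  (hL : ExtPow.IsExtPow i (Omega.sheaf f) L)

/-- The natural function of a global tensor form. -/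
def sectionFam (σ : Γ(CohB1.tensorPow L m, ⊤)) : Fam m i (Over.mk f) where
  val R _ _ _ w := (exists_val φ hφ hL σ w).choose
  nat R R' _ _ _ _ _ _ ψ w := by
    let ρ := IsScalarTower.toAlgHom k R' (FractionRing R')
    refine (IsFractionRing.injective R' (FractionRing R')) ?_
    have h1 := (exists_val φ hφ hL σ (w.map ψ)).choose_spec (FractionRing R') ρ
    have h2 := (exists_val φ hφ hL σ w).choose_spec (FractionRing R') (ρ.comp ψ)
    rw [Tst.map_map] at h1
    exact h1.symm.trans h2

theorem sectionFam_val (σ : Γ(CohB1.tensorPow L m, ⊤)) {R : Type u} [CommRing R] [IsDomain R] [Algebra k R]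
    (w : Tst m i (Over.mk f) R) (K : Type u) [Field K] [Algebra k K] (ρ : R →ₐ[k] K) :
    ρ ((sectionFam φ hφ hL σ).val R w) = fval φ hφ (w.map ρ) σ :=
  ((exists_val φ hφ hL σ w).choose_spec K ρ).symm

end Groth.Agent.FormEvalLib
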