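import Groth.Agent.FormEvalLib.Value

/-!
# Tensor forms are detected by tests

Over an affine open with a frame of the differentials, the coefficients of a tensor form are its
values at the tests given by the partial derivations.
-/

set_option autoImplicit false
set_option linter.style.haveILetI false
set_option linter.unusedSectionVars false
set_option backward.isDefEq.respectTransparency false
set_option maxHeartbeats 1000000

universe u

open CategoryTheory AlgebraicGeometry TopologicalSpace Opposite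
open Groth.Agent.JetVanLib (Fun tv tv_smul tv_add tv_res tv_sum)
open Groth.Agent.DCohLib Groth.Agent.DegDevLib

noncomputable section

namespace Groth.Agent.FormEvalLib

/-- The ring map to the dual numbers of a derivation. -/
def dhom {R : Type u} [CommRing R] (D : R →+ R) (hD : ∀ a b, D (a * b) = a * D b + b * D a) : R →+* DualNumber R where
  toFun r := TrivSqZeroExt.inl r + TrivSqZeroExt.inr (D r)
  map_one' := by
    have h := hD 1 1
    rw [mul_one, one_mul] at h
    have h1 : D 1 = 0 := by linear_combination -h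
    ext <;> simp [h1]
  map_zero' := by ext <;> simp
  map_add' a b := by ext <;> simp
  map_mul' a b := by ext <;> simp [DualNumber.snd_mul, hD] <;> ring

variable {X : Scheme.{u}} {k : Type u} [Field k] (f : X ⟶ Spec (CommRingCat.of k))

/-- Functions on an open as an algebra over the base field. -/
abbrev algOn (V : X.Opens) : Algebra k Γ(X, V) :=
  ((Scheme.ΓSpecIso (CommRingCat.of k)).inv ≫ f.appLE ⊤ V le_top).hom.toAlgebra

theorem fromSpec_comp {V : X.Opens} (hV : IsAffineOpen V) :
    letI := algOn f V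
    (hV.fromSpec : Spec (CommRingCat.of Γ(X, V)) ⟶ X) ≫ f = str k Γ(X, V) := by
  refine (IsAffineOpen.SpecMap_appLE_fromSpec f (isAffineOpen_top _) hV (le_top : V ≤ f ⁻¹ᵁ ⊤)).symm.trans ?_
  rw [IsAffineOpen.fromSpec_top, Scheme.isoSpec_Spec_inv, ← Spec.map_comp]
  rfl

variable {f} [QuasiSeparated f] [Smooth f] {m i : ℕ} {L : X.Modules} (φ : ExtIso i (Omega.sheaf f) L)
  (hφ : Compat φ) (hL : ExtPow.IsExtPow i (Omega.sheaf f) L)

include hL in
/-- If the values at all tests supported in an open set do not depend on the tangent vectors, the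
form vanishes on the affine frames inside. -/
theorem res_eq_zero [IsIntegral X] (hi : 0 < i) (hm : 0 < m) (σ : Γ(CohB1.tensorPow L m, ⊤)) (V : X.affineOpens)
    [Nonempty V.1] {r : ℕ} {e : Fin r → Γ(Omega.sheaf f, V.1)} (he : IsFrame V.1 e)
    (hσ : ∀ (R : Type u) [CommRing R] [IsDomain R] [Algebra k R] (w w' : Tst m i (Over.mk f) R),
      ⊤ ≤ w.pt ⁻¹ᵁ V.1 → w.a = w'.a → (sectionFam φ hφ hL σ).val R w = (sectionFam φ hφ hL σ).val R w') :
    (CohB1.tensorPow L m).presheaf.map (homOfLE (le_top : V.1 ≤ ⊤)).op σ = 0 := by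
  classical
  obtain ⟨N, B, hB, hF⟩ := exists_formFrame φ hL V he m
  obtain ⟨c, hc⟩ := hF.bijective.2 ((CohB1.tensorPow L m).presheaf.map (homOfLE le_top).op σ)
  suffices h0 : ∀ a₀, c a₀ = 0 by
    rw [← hc, Fintype.linearCombination_apply]
    exact Finset.sum_eq_zero fun a _ => by rw [h0 a, zero_smul]
  intro a₀
  letI : Algebra k Γ(X, V.1) := algOn f V.1
  let b := (IsFrame.basis he : Module.Basis (Fin r) Γ(X, V.1) Γ(Omega.sheaf f, V.1))
  let D : Fin r → Γ(X, V.1) →+ Γ(X, V.1) := fun p =>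
    AddMonoidHom.mk' (fun s => b.coord p (OmegaSh.dSect f V.1 s)) fun s t => by rw [OmegaSh.dSect_add, map_add]
  have hDmul : ∀ p s t, D p (s * t) = s * D p t + t * D p s := fun p s t => by
    show b.coord p (OmegaSh.dSect f V.1 (s * t)) = _
    rw [OmegaSh.dSect_mul, map_add, map_smul, map_smul]
    rfl
  have hDc : ∀ p (x : k), D p (algebraMap k Γ(X, V.1) x) = 0 := fun p x => by
    show b.coord p (OmegaSh.dSect f V.1 (f.appLE ⊤ V.1 le_top ((Scheme.ΓSpecIso (CommRingCat.of k)).inv x))) = 0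
    rw [OmAff.dSect_appLE]
    exact map_zero _
  let a : Spec (CommRingCat.of Γ(X, V.1)) ⟶ X := V.2.fromSpec
  have ha : a ≫ f = str k Γ(X, V.1) := fromSpec_comp f V.2
  let test : (Γ(X, V.1) →+* DualNumber Γ(X, V.1)) → (Spec (CommRingCat.of (DualNumber Γ(X, V.1))) ⟶ X) :=
    fun ψ => sMap ψ ≫ a
  let ψD : Fin m → Fin i → Γ(X, V.1) →+* DualNumber Γ(X, V.1) := fun j l =>
    dhom (D (Set.powersetCard.ofFinEmbEquiv.symm (B a₀ j) l)) (hDmul _)
  let ψ0 : Γ(X, V.1) →+* DualNumber Γ(X, V.1) := algebraMap _ _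
  have hover : ∀ ψ : Γ(X, V.1) →+* DualNumber Γ(X, V.1),
      ψ.comp (algebraMap k Γ(X, V.1)) = algebraMap k (DualNumber Γ(X, V.1)) → test ψ ≫ f = str k _ := fun ψ hψ => by
    show (sMap ψ ≫ a) ≫ f = _
    rw [Category.assoc, ha, str, str, sMap_comp, hψ]
  have fst : ∀ ψ : Γ(X, V.1) →+* DualNumber Γ(X, V.1),
      (fstH _).comp ψ = RingHom.id _ → jε _ ≫ test ψ = a := fun ψ hψ => by
    show sMap (fstH _) ≫ sMap ψ ≫ a = a
    rw [← Category.assoc, sMap_comp, hψ]
    simp [sMap]
  let w : Tst m i (Over.mk f) Γ(X, V.1) :=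
    { a := a
      v := fun j l => test (ψD j l)
      a_over := ha
      v_over := fun j l => hover _ (RingHom.ext fun x => by
        ext
        · simp [ψD, dhom, TrivSqZeroExt.algebraMap_eq_inl']
        · simp [ψD, dhom, TrivSqZeroExt.algebraMap_eq_inl', hDc])
      v_fst := fun j l => fst _ (RingHom.ext fun x => by simp [ψD, dhom, fstH]) }
  let w₀ : Tst m i (Over.mk f) Γ(X, V.1) :=
    { a := a
      v := fun _ _ => test ψ0
      a_over := ha
      v_over := fun _ _ => hover _ (RingHom.ext fun x => (IsScalarTower.algebraMap_apply k Γ(X, V.1) _ x).symm)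
      v_fst := fun _ _ => fst _ (RingHom.ext fun x => by simp [ψ0, fstH, TrivSqZeroExt.algebraMap_eq_inl']) }
  have htop : ⊤ ≤ w.pt ⁻¹ᵁ V.1 := V.2.fromSpec_preimage_self.ge
  let K := FractionRing Γ(X, V.1)
  let ρ := IsScalarTower.toAlgHom k Γ(X, V.1) K
  have hρi : Function.Injective ρ := IsFractionRing.injective Γ(X, V.1) K
  have hsec : ∀ s, sec w.pt V.1 htop s = s := fun s => by
    have h := sec_fromSpec V.2 (RingHom.id Γ(X, V.1)) (by simpa using htop)
    refine (RingHom.congr_fun (sec_congr (by simp [w, a]) V.1 htop (by simpa using htop)) s).trans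
      (RingHom.congr_fun h s)
  have hdd : ∀ j l s, w.dd htop j l s = D (Set.powersetCard.ofFinEmbEquiv.symm (B a₀ j) l) s := fun j l s => by
    refine (congrArg TrivSqZeroExt.snd (RingHom.congr_fun
      (sec_fromSpec V.2 (ψD j l) (w.top_vec htop j l)) s)).trans ?_
    simp [ψD, dhom]
  have hdd₀ : ∀ j l s, w₀.dd htop j l s = 0 := fun j l s => by
    refine (congrArg TrivSqZeroExt.snd (RingHom.congr_fun
      (sec_fromSpec V.2 ψ0 (w₀.top_vec htop j l)) s)).trans ?_
    simp [ψ0, TrivSqZeroExt.algebraMap_eq_inl']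
  -- evaluation of the functionals on the frame
  have eval : ∀ (v : Tst m i (Over.mk f) K) (hv : ⊤ ≤ v.pt ⁻¹ᵁ V.1) (d : Fin m → Fin i → Γ(Omega.sheaf f, V.1) → K),
      (∀ j l y z, d j l (y + z) = d j l y + d j l z) →
      (∀ j l (x : Γ(X, V.1)) y, d j l (x • y) = sec v.pt V.1 hv x * d j l y) →
      (∀ j l s, v.dd hv j l s = d j l (OmegaSh.dSect f V.1 s)) →
      fval φ hφ v σ = ∑ a, sec v.pt V.1 hv (c a) * ∏ j, Matrix.det (Matrix.of fun l l' =>
        d j l' (e (Set.powersetCard.ofFinEmbEquiv.symm (B a j) l))) := by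
    intro v hv d hadd hsmul hd
    obtain ⟨hu, hΘ⟩ := (exists_valFun φ hφ v).choose_spec.choose_spec
    have hall : ∀ j l y, fv v ((exists_valFun φ hφ v).choose j l) hv y = d j l y := fun j l y => by
      have hy : y ∈ Submodule.span Γ(X, V.1) (Set.range (OmegaSh.dSect f V.1)) := by
        rw [OmegaUnivLib.span_dSect f ⟨V.2, ⊤, isAffineOpen_top _, le_top⟩]
        trivial
      induction hy using Submodule.span_induction with
      | mem y hy =>
        obtain ⟨s, rfl⟩ := hy
        rw [hu j l V.1 hv s, hd]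
      | zero =>
        have h0 : d j l 0 = 0 := by simpa using hadd j l 0 0
        rw [h0, fv, ← zero_smul Γ(X, V.1) (0 : Γ(Omega.sheaf f, V.1)), tv_smul, map_zero, zero_mul]
        exact map_zero _
      | add y z _ _ hy hz => rw [fv, tv_add, map_add, hadd, ← hy, ← hz]; rfl
      | smul x y _ hy => rw [fv, tv_smul, map_mul, kev_app v hv, hsmul, ← hy]; rfl
    have hres : fv v (exists_valFun φ hφ v).choose_spec.choose hv
        ((CohB1.tensorPow L m).presheaf.map (homOfLE (le_top : V.1 ≤ ⊤)).op σ) = fval φ hφ v σ := by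
      rw [fv, tv_res v.pt _ (le_top : V.1 ≤ ⊤), kev_res]
      rfl
    rw [← hres, ← hc, Fintype.linearCombination_apply, fv, tv_sum, map_sum]
    refine Finset.sum_congr rfl fun a _ => ?_
    rw [tv_smul, map_mul, kev_app v hv]
    refine congrArg (sec v.pt V.1 hv (c a) * ·) ((hΘ V hv _).trans ?_)
    exact Finset.prod_congr rfl fun j _ => congrArg Matrix.det (Matrix.ext fun l l' => hall j l' _)
  have hsecK : ∀ s, sec (w.map ρ).pt V.1 (w.top_map ρ htop) s = ρ s := fun s =>
    (RingHom.congr_fun (sec_sMap ρ.toRingHom w.pt V.1 htop (w.top_map ρ htop)) s).trans (congrArg ρ (hsec s))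
  have hsecK₀ : ∀ s, sec (w₀.map ρ).pt V.1 (w₀.top_map ρ htop) s = ρ s := hsecK
  have h1 := eval (w.map ρ) (w.top_map ρ htop)
    (fun j l y => ρ (b.coord (Set.powersetCard.ofFinEmbEquiv.symm (B a₀ j) l) y))
    (fun j l y z => by rw [map_add, map_add]) (fun j l x y => by rw [map_smul, smul_eq_mul, map_mul, hsecK])
    (fun j l s => by rw [w.dd_map ρ htop, hdd]; rfl)
  have h2 := eval (w₀.map ρ) (w₀.top_map ρ htop) (fun _ _ _ => 0) (fun _ _ _ _ => (add_zero 0).symm)
    (fun _ _ _ _ => (mul_zero _).symm) (fun j l s => by rw [w₀.dd_map ρ htop, hdd₀, map_zero])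
  have heq := congrArg ρ (hσ Γ(X, V.1) w w₀ htop rfl)
  rw [sectionFam_val φ hφ hL σ w K ρ, sectionFam_val φ hφ hL σ w₀ K ρ, h1, h2] at heq
  have hz : ∀ a, ∏ j, Matrix.det (Matrix.of fun (_ _ : Fin i) => (0 : K)) = 0 := fun (_ : Fin N) =>
    Finset.prod_eq_zero (Finset.mem_univ (⟨0, hm⟩ : Fin m))
      (Matrix.det_eq_zero_of_row_eq_zero (⟨0, hi⟩ : Fin i) fun _ => rfl)
  simp only [hsecK, hsecK₀] at heq
  rw [Finset.sum_eq_single a₀, Finset.sum_eq_zero (fun a _ => by rw [hz a, mul_zero])] at heq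
  · -- the diagonal value is one
    have hdet : ∀ j, Matrix.det (Matrix.of fun l l' : Fin i => ρ (b.coord
        (Set.powersetCard.ofFinEmbEquiv.symm (B a₀ j) l') (e (Set.powersetCard.ofFinEmbEquiv.symm (B a₀ j) l)))) = 1 :=
      fun j => by
      rw [show (Matrix.of fun l l' : Fin i => ρ (b.coord (Set.powersetCard.ofFinEmbEquiv.symm (B a₀ j) l')
          (e (Set.powersetCard.ofFinEmbEquiv.symm (B a₀ j) l)))) = 1 from ?_, Matrix.det_one]
      ext l l'
      rw [Matrix.of_apply, Matrix.one_apply, ← IsFrame.basis_apply he]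
      simp [b, Module.Basis.coord_apply, Finsupp.single_apply, apply_ite ρ,
        (Set.powersetCard.ofFinEmbEquiv.symm (B a₀ j)).injective.eq_iff, eq_comm]
    rw [Finset.prod_eq_one fun j _ => hdet j, mul_one] at heq
    exact hρi (heq.trans (map_zero ρ).symm)
  · intro a _ hne
    obtain ⟨j, hj⟩ := Function.ne_iff.1 (hB.ne hne)
    refine mul_eq_zero_of_right _ (Finset.prod_eq_zero (Finset.mem_univ j) ?_)
    have hS : ∃ l, ∀ l', Set.powersetCard.ofFinEmbEquiv.symm (B a j) l ≠ Set.powersetCard.ofFinEmbEquiv.symm (B a₀ j) l' := by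
      by_contra hcon
      push_neg at hcon
      refine hj (Subtype.ext (Finset.eq_of_subset_of_card_le (fun x hx => ?_) ?_))
      · obtain ⟨l, rfl⟩ := Set.powersetCard.mem_range_ofFinEmbEquiv_symm_iff_mem (B a j) x |>.2 hx
        obtain ⟨l', hl'⟩ := hcon l
        exact (Set.powersetCard.mem_range_ofFinEmbEquiv_symm_iff_mem (B a₀ j) _).1 ⟨l', hl'.symm⟩
      · exact le_of_eq ((B a₀ j).2.trans (B a j).2.symm)
    obtain ⟨l, hl⟩ := hS
    refine Matrix.det_eq_zero_of_row_eq_zero l fun l' => ?_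
    rw [Matrix.of_apply, ← IsFrame.basis_apply he]
    simp [b, Module.Basis.coord_apply, Finsupp.single_apply, hl l']
  · exact fun h => absurd (Finset.mem_univ a₀) h

end Groth.Agent.FormEvalLib
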